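import Mathlib.GroupTheory.Perm.Sign
import Mathlib.GroupTheory.GroupAction.Basic
import Mathlib.Algebra.Group.Subgroup.Finite
import Mathlib.Tactic

/-!
# Powers of the dihedral group of order eight

The group is the centraliser of a double transposition in the symmetric group on four points.
-/

set_option autoImplicit false
set_option synthInstance.maxSize 1000

namespace CfsgLib.AltInvClasses

open Equiv

/-- Four points in two pairs. -/
abbrev Four := Bool × Bool

/-- The flip of both pairs. -/
def zPerm : Perm Four := Equiv.prodCongrRight fun _ => swap false true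

/-- The centraliser of the flip. -/
def DSub : Subgroup (Perm Four) := Subgroup.centralizer {zPerm}

theorem mem_DSub {p : Perm Four} : p ∈ DSub ↔ p * zPerm = zPerm * p :=
  Subgroup.mem_centralizer_singleton_iff

instance : DecidablePred (· ∈ DSub) := fun _ => decidable_of_iff _ mem_DSub.symm

/-- The dihedral group of order eight. -/
abbrev DD := ↥DSub

/-- The central involution. -/
def zd : DD := ⟨zPerm, mem_DSub.mpr rfl⟩

/-- The flip of one pair. -/
def ed : DD := ⟨swap (false, false) (false, true), mem_DSub.mpr (by decide +kernel)⟩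

/-- The exchange of the two pairs. -/
def xd : DD := ⟨Equiv.prodCongrLeft fun _ => swap false true, mem_DSub.mpr (by decide +kernel)⟩

/-- The two centralisers of non-central involutions. -/
def kl (b : Bool) : Subgroup DD := Subgroup.centralizer {bif b then xd else ed}

/-- The generator that is centralised. -/
def gen (b : Bool) : DD := bif b then xd else ed

theorem mem_kl {b : Bool} {d : DD} : d ∈ kl b ↔ d * gen b = gen b * d :=
  Subgroup.mem_centralizer_singleton_iff

instance (b : Bool) : DecidablePred (· ∈ kl b) := fun _ => decidable_of_iff _ mem_kl.symm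

/-- Central elements. -/
def IsC (d : DD) : Prop := d = 1 ∨ d = zd

instance : DecidablePred IsC := fun _ => inferInstanceAs (Decidable (_ ∨ _))

theorem card_DD : Nat.card DD = 8 := by
  rw [Nat.card_eq_fintype_card]; decide +kernel

theorem card_kl : ∀ b, Nat.card (kl b) = 4 := by
  intro b; rw [Nat.card_eq_fintype_card]; revert b; decide +kernel

theorem card_cent : ∀ d : DD, Nat.card {a : DD // a * d = d * a} = if IsC d then 8 else 4 := by
  intro d; rw [Nat.card_eq_fintype_card]; revert d; decide +kernel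

theorem isC_comm : ∀ d a : DD, IsC d → a * d = d * a := by decide +kernel

theorem zd_mem_kl : ∀ b, zd ∈ kl b := by decide +kernel

theorem gen_mem_kl : ∀ b, gen b ∈ kl b := by decide +kernel

theorem kl_comm : ∀ b, ∀ a : DD, a ∈ kl b → ∀ c : DD, c ∈ kl b → a * c = c * a := by decide +kernel

theorem kl_sq : ∀ b, ∀ a : DD, a ∈ kl b → a * a = 1 := by decide +kernel

theorem kl_cases : ∀ b, ∀ a : DD, a ∈ kl b → IsC a ∨ a = gen b ∨ a = gen b * zd := by decide +kernel

theorem not_isC_gen : ∀ b, ¬ IsC (gen b) ∧ ¬ IsC (gen b * zd) := by decide +kernel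

theorem invol_cases : ∀ d : DD, d * d = 1 → IsC d ∨ ∃ b, d = gen b ∨ d = gen b * zd := by
  decide +kernel

theorem gen_conj : ∀ b, ∃ a : DD, a * gen b * a⁻¹ = gen b * zd ∧ a * (gen b * zd) * a⁻¹ = gen b := by
  decide +kernel

theorem exists_mul_kl : ∀ d : DD, ∃ a ∈ kl false, ∃ c ∈ kl true, d = a * c := by decide +kernel

theorem commutator_cases : ∀ a c : DD, a * c * a⁻¹ * c⁻¹ = 1 ∨ a * c * a⁻¹ * c⁻¹ = zd := by
  decide +kernel

theorem commutator_ed_xd : ed * xd * ed⁻¹ * xd⁻¹ = zd := by decide +kernel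

theorem zd_ne_one : zd ≠ 1 := by decide +kernel

theorem zd_sq : zd * zd = 1 := by decide +kernel

theorem isC_mul_iff : ∀ b, ∀ a : DD, a ∈ kl b → ∀ c : DD, c ∈ kl b → ¬ IsC c →
    (IsC (a * c) ↔ ¬ IsC a) := by decide +kernel

theorem not_comm_gen : gen true * gen false ≠ gen false * gen true := by decide +kernel

theorem comm_pair : ∀ a c : DD, a * a = 1 → c * c = 1 → a * c = c * a →
    (a ∈ kl false ∧ c ∈ kl false) ∨ (a ∈ kl true ∧ c ∈ kl true) := by decide +kernel

theorem sign_DD : ∀ b, Perm.sign (gen b : Perm Four) = bif b then 1 else -1 := by decide +kernel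

/-- An elementary abelian subgroup lies in one of the two four-groups. -/
theorem le_kl (A : Subgroup DD) (hsq : ∀ a ∈ A, a * a = 1) : ∃ b, A ≤ kl b := by
  have hcomm : ∀ a ∈ A, ∀ c ∈ A, a * c = c * a := fun a ha c hc => by
    have h := hsq _ (A.mul_mem ha hc)
    have e1 : a⁻¹ = a := inv_eq_of_mul_eq_one_right (hsq a ha)
    have e2 : c⁻¹ = c := inv_eq_of_mul_eq_one_right (hsq c hc)
    rw [← inv_eq_of_mul_eq_one_right h, mul_inv_rev, e1, e2]
  by_cases h : ∀ a ∈ A, a ∈ kl false
  · exact ⟨false, h⟩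
  refine ⟨true, fun c hc => ?_⟩
  push Not at h
  obtain ⟨a, ha, ha'⟩ := h
  rcases comm_pair a c (hsq a ha) (hsq c hc) (hcomm a ha c hc) with h1 | h1
  · exact absurd h1.1 ha'
  · exact h1.2

theorem card_le_four (A : Subgroup DD) (hsq : ∀ a ∈ A, a * a = 1) : Nat.card A ≤ 4 := by
  obtain ⟨b, hb⟩ := le_kl A hsq
  rw [← card_kl b]
  exact Subgroup.card_le_of_le hb

/-! ### Products -/

variable {n : ℕ}

/-- A family of subgroups, each full or abelian of exponent two. -/
structure Fam (n : ℕ) where
  /-- The full coordinates. -/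
  ty : Fin n → Option Bool

/-- The coordinate subgroups. -/
def Fam.P (F : Fam n) (l : Fin n) : Subgroup DD :=
  match F.ty l with
  | none => ⊤
  | some b => kl b

/-- The product subgroup. -/
def Fam.sub (F : Fam n) : Subgroup (Fin n → DD) := Subgroup.pi Set.univ F.P

theorem Fam.mem_sub {F : Fam n} {d : Fin n → DD} : d ∈ F.sub ↔ ∀ l, d l ∈ F.P l :=
  ⟨fun h l => h l trivial, fun h l _ => h l⟩

/-- The non-central full coordinates. -/
def Fam.bad (F : Fam n) (d : Fin n → DD) : Finset (Fin n) :=
  Finset.univ.filter fun l => F.ty l = none ∧ ¬ IsC (d l)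

theorem Fam.zd_mem (F : Fam n) (l : Fin n) : zd ∈ F.P l := by
  unfold Fam.P
  cases F.ty l with
  | none => trivial
  | some b => exact zd_mem_kl b

theorem Fam.comm_of_some {F : Fam n} {l : Fin n} (h : F.ty l ≠ none) {a c : DD} (ha : a ∈ F.P l)
    (hc : c ∈ F.P l) : a * c = c * a := by
  unfold Fam.P at ha hc
  cases e : F.ty l with
  | none => exact absurd e h
  | some b =>
    rw [e] at ha hc
    exact kl_comm b a ha c hc

theorem Fam.card_cent (F : Fam n) {d : Fin n → DD} (hd : d ∈ F.sub) :
    Nat.card {a : F.sub // (a : Fin n → DD) * d = d * a} * 2 ^ (F.bad d).card = Nat.card F.sub := by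
  classical
  have e1 : Nat.card {a : F.sub // (a : Fin n → DD) * d = d * a} =
      ∏ l, Nat.card {x : F.P l // (x : DD) * d l = d l * x} := by
    rw [← Nat.card_pi]
    exact Nat.card_congr
      { toFun := fun a l => ⟨⟨(a.1 : Fin n → DD) l, Fam.mem_sub.mp a.1.2 l⟩, congrFun a.2 l⟩
        invFun := fun f => ⟨⟨fun l => (f l).1, Fam.mem_sub.mpr fun l => (f l).1.2⟩,
          funext fun l => (f l).2⟩
        left_inv := fun a => rfl
        right_inv := fun f => rfl }
  have e2 : Nat.card F.sub = ∏ l, Nat.card (F.P l) := by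
    rw [← Nat.card_pi]
    exact Nat.card_congr
      { toFun := fun a l => ⟨(a : Fin n → DD) l, Fam.mem_sub.mp a.2 l⟩
        invFun := fun f => ⟨fun l => f l, Fam.mem_sub.mpr fun l => (f l).2⟩
        left_inv := fun a => rfl
        right_inv := fun f => rfl }
  rw [e1, e2, Fam.bad, Finset.card_filter, ← Finset.prod_pow_eq_pow_sum, ← Finset.prod_mul_distrib]
  refine Finset.prod_congr rfl fun l _ => ?_
  have hl := Fam.mem_sub.mp hd l
  by_cases hn : F.ty l = none
  · have hP : F.P l = ⊤ := by unfold Fam.P; rw [hn]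
    rw [show Nat.card {x : F.P l // (x : DD) * d l = d l * x} = Nat.card {a : DD // a * d l = d l * a}
      from Nat.card_congr ⟨fun x => ⟨x.1.1, x.2⟩, fun a => ⟨⟨a.1, hP ▸ Subgroup.mem_top _⟩, a.2⟩,
        fun _ => rfl, fun _ => rfl⟩, CfsgLib.AltInvClasses.card_cent,
      show Nat.card (F.P l) = 8 by rw [hP, Subgroup.card_top, card_DD]]
    by_cases hc : IsC (d l) <;> simp [hn, hc]
  · rw [if_neg (fun h => hn h.1), pow_zero, mul_one]
    exact Nat.card_congr (Equiv.subtypeUnivEquiv fun x => Fam.comm_of_some hn x.2 hl)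

/-- An automorphism preserves the number of non-central full coordinates. -/
theorem Fam.bad_map (F : Fam n) (θ : F.sub ≃* F.sub) (a : F.sub) :
    (F.bad (θ a : Fin n → DD)).card = (F.bad (a : Fin n → DD)).card := by
  have e1 := F.card_cent (θ a).2
  have e2 := F.card_cent a.2
  have e : Nat.card {x : F.sub // (x : Fin n → DD) * (θ a : Fin n → DD) = (θ a : Fin n → DD) * x} =
      Nat.card {x : F.sub // (x : Fin n → DD) * (a : Fin n → DD) = (a : Fin n → DD) * x} := by
    refine (Nat.card_congr (θ.toEquiv.subtypeEquiv fun x => ?_)).symm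
    show _ ↔ ((θ x : F.sub) : Fin n → DD) * _ = _
    rw [← Subgroup.coe_mul, ← Subgroup.coe_mul, ← Subgroup.coe_mul, ← Subgroup.coe_mul, Subtype.coe_inj,
      Subtype.coe_inj, show θ.toEquiv x = θ x from rfl, ← map_mul, ← map_mul, θ.injective.eq_iff]
  rw [e, ← e2] at e1
  exact Nat.pow_right_injective le_rfl (Nat.eq_of_mul_eq_mul_left
    (Nat.pos_of_ne_zero fun h => by
      rw [h, zero_mul] at e2
      exact absurd e2.symm Nat.card_pos.ne') e1)

/-- The central involution at one coordinate. -/
def Fam.zc (F : Fam n) (l : Fin n) : F.sub :=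
  ⟨Pi.mulSingle l zd, Fam.mem_sub.mpr fun j => by
    rcases eq_or_ne j l with rfl | h
    · rw [Pi.mulSingle_eq_same]; exact F.zd_mem j
    · rw [Pi.mulSingle_eq_of_ne h]; exact one_mem _⟩

theorem Fam.coe_zc (F : Fam n) (l : Fin n) : (F.zc l : Fin n → DD) = Pi.mulSingle l zd := rfl

theorem Fam.zc_injective (F : Fam n) : Function.Injective F.zc := fun l j h => by
  by_contra hne
  have := congrFun (congrArg Subtype.val h) l
  rw [Fam.coe_zc, Fam.coe_zc, Pi.mulSingle_eq_same, Pi.mulSingle_eq_of_ne hne] at this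
  exact zd_ne_one this

theorem Fam.mem_of_none {F : Fam n} {l : Fin n} (h : F.ty l = none) (v : DD) :
    Pi.mulSingle l v ∈ F.sub := Fam.mem_sub.mpr fun j => by
  rcases eq_or_ne j l with rfl | hne
  · rw [Pi.mulSingle_eq_same]; unfold Fam.P; rw [h]; trivial
  · rw [Pi.mulSingle_eq_of_ne hne]; exact one_mem _

theorem Fam.bad_single {F : Fam n} {l : Fin n} (h : F.ty l = none) {v : DD} (hv : ¬ IsC v) :
    F.bad (Pi.mulSingle l v) = {l} := by
  ext j
  rcases eq_or_ne j l with rfl | hne
  · simp [Fam.bad, h, hv]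
  · simp [Fam.bad, hne, IsC]

/-- An automorphism permutes the central involutions of the full coordinates. -/
theorem Fam.map_zc (F : Fam n) (θ : F.sub ≃* F.sub) {l : Fin n} (hl : F.ty l = none) :
    ∃ j, F.ty j = none ∧ θ (F.zc l) = F.zc j := by
  set a : F.sub := ⟨_, Fam.mem_of_none hl ed⟩
  set c : F.sub := ⟨_, Fam.mem_of_none hl xd⟩
  have hac : a * c * a⁻¹ * c⁻¹ = F.zc l := by
    apply Subtype.ext
    show (Pi.mulSingle l ed : Fin n → DD) * Pi.mulSingle l xd * (Pi.mulSingle l ed)⁻¹ *
      (Pi.mulSingle l xd)⁻¹ = _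
    rw [← Pi.mulSingle_inv, ← Pi.mulSingle_inv, ← Pi.mulSingle_mul, ← Pi.mulSingle_mul,
      ← Pi.mulSingle_mul, commutator_ed_xd]
    rfl
  obtain ⟨j, hj⟩ := Finset.card_eq_one.mp ((F.bad_map θ a).trans
    (by rw [show (a : Fin n → DD) = Pi.mulSingle l ed from rfl, Fam.bad_single hl (v := ed) (not_isC_gen false).1,
      Finset.card_singleton]))
  have hjn : F.ty j = none := (Finset.mem_filter.mp (hj ▸ Finset.mem_singleton_self j)).2.1
  refine ⟨j, hjn, ?_⟩
  have hne : θ (F.zc l) ≠ 1 := by
    intro h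
    rw [EmbeddingLike.map_eq_one_iff] at h
    have := congrFun (congrArg Subtype.val h) l
    rw [Fam.coe_zc, Pi.mulSingle_eq_same] at this
    exact zd_ne_one this
  rw [← hac, map_mul, map_mul, map_mul, map_inv, map_inv] at hne ⊢
  have hout : ∀ i, i ≠ j → ((θ a * θ c * (θ a)⁻¹ * (θ c)⁻¹ : F.sub) : Fin n → DD) i = 1 := by
    intro i hi
    simp only [Subgroup.coe_mul, Subgroup.coe_inv, Pi.mul_apply, Pi.inv_apply]
    have hc : (θ a : Fin n → DD) i * (θ c : Fin n → DD) i =
        (θ c : Fin n → DD) i * (θ a : Fin n → DD) i := by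
      by_cases hin : F.ty i = none
      · refine (isC_comm _ _ ?_).symm
        by_contra hc
        exact hi (Finset.mem_singleton.mp (hj ▸ Finset.mem_filter.mpr ⟨Finset.mem_univ i, hin, hc⟩))
      · exact Fam.comm_of_some hin (Fam.mem_sub.mp (θ a).2 i) (Fam.mem_sub.mp (θ c).2 i)
    rw [hc, mul_inv_cancel_right, mul_inv_cancel]
  apply Subtype.ext
  funext i
  rw [Fam.coe_zc]
  rcases eq_or_ne i j with rfl | hi
  · rw [Pi.mulSingle_eq_same]
    refine (commutator_cases _ _).resolve_left fun h => hne (Subtype.ext (funext fun i' => ?_))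
    rcases eq_or_ne i' i with rfl | hi'
    · exact h
    · exact hout i' hi'
  · rw [Pi.mulSingle_eq_of_ne hi, hout i hi]

/-- The product of the central involutions over a set. -/
def zsum (s : Finset (Fin n)) : Fin n → DD := fun l => if l ∈ s then zd else 1

theorem Fam.zsum_mem (F : Fam n) (s : Finset (Fin n)) : zsum s ∈ F.sub := Fam.mem_sub.mpr fun l => by
  unfold zsum; split
  · exact F.zd_mem l
  · exact one_mem _

theorem zsum_empty : zsum (∅ : Finset (Fin n)) = 1 := funext fun l => by simp [zsum]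

theorem zsum_insert {l : Fin n} {s : Finset (Fin n)} (h : l ∉ s) :
    zsum (insert l s) = Pi.mulSingle l zd * zsum s := by
  funext j
  rcases eq_or_ne j l with rfl | hne
  · simp [zsum, h]
  · simp [zsum, hne]

theorem zsum_injective : Function.Injective (zsum (n := n)) := fun s t h => by
  ext l
  have := congrFun h l
  unfold zsum at this
  by_cases h1 : l ∈ s <;> by_cases h2 : l ∈ t <;> simp [h1, h2] at this ⊢ <;> exact zd_ne_one (by simp_all)

/-- An automorphism maps a product of central involutions of full coordinates to one of the same length. -/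
theorem Fam.map_zsum (F : Fam n) (θ : F.sub ≃* F.sub) :
    ∃ f : Fin n → Fin n, (∀ l, F.ty l = none → F.ty (f l) = none) ∧
      ∀ s : Finset (Fin n), (∀ l ∈ s, F.ty l = none) →
        (θ ⟨zsum s, F.zsum_mem s⟩ : Fin n → DD) = zsum (s.image f) ∧ (s.image f).card = s.card := by
  classical
  have h := fun l => F.map_zc θ (l := l)
  choose! f hf1 hf2 using h
  refine ⟨f, hf1, fun s => ?_⟩
  induction s using Finset.induction_on with
  | empty =>
    intro _
    refine ⟨?_, rfl⟩
    rw [show (⟨zsum ∅, F.zsum_mem ∅⟩ : F.sub) = 1 from Subtype.ext zsum_empty, map_one]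
    simp [zsum_empty]
  | @insert l s hl ih =>
    intro hs
    obtain ⟨h1, h2⟩ := ih fun j hj => hs j (Finset.mem_insert_of_mem hj)
    have hln := hs l (Finset.mem_insert_self l s)
    have hfl : f l ∉ s.image f := by
      intro hm
      obtain ⟨j, hj, hjl⟩ := Finset.mem_image.mp hm
      have hjn := hs j (Finset.mem_insert_of_mem hj)
      exact hl (F.zc_injective (θ.injective ((hf2 j hjn).trans (hjl ▸ (hf2 l hln).symm))) ▸ hj)
    refine ⟨?_, by rw [Finset.image_insert, Finset.card_insert_of_notMem hfl,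
      Finset.card_insert_of_notMem hl, h2]⟩
    rw [show (⟨zsum (insert l s), F.zsum_mem _⟩ : F.sub) = F.zc l * ⟨zsum s, F.zsum_mem s⟩ from
      Subtype.ext (zsum_insert hl), map_mul, hf2 l hln, Subgroup.coe_mul, h1, Finset.image_insert,
      zsum_insert hfl]
    rfl

/-- An automorphism fixes the product over all full coordinates. -/
theorem Fam.map_zsum_all (F : Fam n) (θ : F.sub ≃* F.sub) :
    θ ⟨zsum (Finset.univ.filter fun l => F.ty l = none), F.zsum_mem _⟩ =
      ⟨zsum (Finset.univ.filter fun l => F.ty l = none), F.zsum_mem _⟩ := by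
  obtain ⟨f, hf, h⟩ := F.map_zsum θ
  obtain ⟨h1, h2⟩ := h (Finset.univ.filter fun l => F.ty l = none) fun l hl => (Finset.mem_filter.mp hl).2
  refine Subtype.ext (h1.trans (congrArg zsum (Finset.eq_of_subset_of_card_le ?_ h2.ge)))
  intro j hj
  obtain ⟨l, hl, rfl⟩ := Finset.mem_image.mp hj
  exact Finset.mem_filter.mpr ⟨Finset.mem_univ _, hf l (Finset.mem_filter.mp hl).2⟩

end CfsgLib.AltInvClasses
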