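import Cfsg.Agent.Lib.AltInvClasses.Model
import Cfsg.Agent.Lib.Transfer.Thompson
import Mathlib.Algebra.Group.Conj
import Mathlib.GroupTheory.Nilpotent
import Mathlib.GroupTheory.Sylow

/-!
# Fusion of involutions around the centraliser of a long involution

A group with no subgroup of index two, in which a Sylow-central involution has the centraliser of
`Cfsg.Agent.Lib.AltInvClasses.Model`.
-/

set_option autoImplicit false
set_option synthInstance.maxSize 1000
set_option linter.unusedSectionVars false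
set_option linter.style.haveILetI false

namespace CfsgLib.AltInvClasses

open Equiv

variable {n r : ℕ}

/-! ### More on the power of the dihedral group -/

theorem kl_normal : ∀ b, ∀ a : DD, a ∈ kl b → ∀ x : DD, x * a * x⁻¹ ∈ kl b := by decide +kernel

theorem mem_kl_of_comm : ∀ b, ∀ a v : DD, (v = gen b ∨ v = gen b * zd) → a * v = v * a → a ∈ kl b := by
  decide +kernel

theorem not_isC_cases : ∀ d : DD, d * d = 1 → ¬ IsC d → ∃ b, d = gen b ∨ d = gen b * zd := by
  decide +kernel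

theorem pd_kl_false : ∀ a : DD, a ∈ kl false → pd a = 1 := by decide +kernel

theorem pd_xd : pd xd ≠ 1 := by decide +kernel

theorem isC_cases : ∀ d : DD, IsC d → d ≠ zd → d = 1 := by decide +kernel

theorem gen_mul_zd : ∀ b, (gen b * zd) * zd = gen b := by decide +kernel

theorem gen_mem_iff : ∀ b c, gen b ∈ kl c ↔ b = c := by decide +kernel

/-- All coordinates full. -/
def Fam.all (n : ℕ) : Fam n := ⟨fun _ => none⟩

/-- All coordinates of one type. -/
def Fam.kk (n : ℕ) (b : Bool) : Fam n := ⟨fun _ => some b⟩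

/-- One coordinate cut down. -/
def Fam.one (n : ℕ) (k : Fin n) (b : Bool) : Fam n := ⟨fun l => if l = k then some b else none⟩

/-- All full coordinates cut down. -/
def Fam.fill (F : Fam n) (b : Bool) : Fam n := ⟨fun l => some ((F.ty l).getD b)⟩

theorem Fam.mem_all (d : Fin n → DD) : d ∈ (Fam.all n).sub :=
  Fam.mem_sub.mpr fun _ => Subgroup.mem_top _

theorem Fam.mem_kk {b : Bool} {d : Fin n → DD} : d ∈ (Fam.kk n b).sub ↔ ∀ l, d l ∈ kl b :=
  Fam.mem_sub

theorem Fam.mem_one {k : Fin n} {b : Bool} {d : Fin n → DD} :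
    d ∈ (Fam.one n k b).sub ↔ d k ∈ kl b := by
  rw [Fam.mem_sub]
  constructor
  · intro h
    have := h k
    simpa [Fam.P, Fam.one] using this
  · intro h l
    by_cases hl : l = k
    · subst hl; simpa [Fam.P, Fam.one] using h
    · simp [Fam.P, Fam.one, hl]

theorem Fam.fill_P (F : Fam n) (b : Bool) (l : Fin n) : (F.fill b).P l = kl ((F.ty l).getD b) := rfl

theorem Fam.fill_le (F : Fam n) (b : Bool) : (F.fill b).sub ≤ F.sub := fun d hd =>
  Fam.mem_sub.mpr fun l => by
    have h := Fam.mem_sub.mp hd l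
    rw [Fam.fill_P] at h
    unfold Fam.P
    cases e : F.ty l with
    | none => trivial
    | some c => rw [e] at h; exact h

theorem Fam.exists_fill (F : Fam n) {d : Fin n → DD} (hd : d ∈ F.sub) :
    ∃ a ∈ (F.fill false).sub, ∃ c ∈ (F.fill true).sub, d = a * c := by
  choose u hu v hv huv using fun x : DD => exists_mul_kl x
  refine ⟨fun l => (F.ty l).elim (u (d l)) fun _ => d l, Fam.mem_sub.mpr fun l => ?_,
    fun l => (F.ty l).elim (v (d l)) fun _ => 1, Fam.mem_sub.mpr fun l => ?_, funext fun l => ?_⟩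
  · have h := Fam.mem_sub.mp hd l
    unfold Fam.P at h
    rw [Fam.fill_P]
    cases e : F.ty l with
    | none => exact hu _
    | some c => rw [e] at h; exact h
  · rw [Fam.fill_P]
    cases e : F.ty l with
    | none => exact hv _
    | some c => exact one_mem _
  · simp only [Pi.mul_apply]
    cases e : F.ty l with
    | none => exact huv _
    | some c => exact (mul_one _).symm

theorem Fam.fill_sq (F : Fam n) (b : Bool) {d : Fin n → DD} (hd : d ∈ (F.fill b).sub) : d * d = 1 :=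
  funext fun l => kl_sq _ _ (Fam.mem_sub.mp hd l)

theorem card_pow (n : ℕ) : Nat.card (Fin n → DD) = 8 ^ n := by
  rw [Nat.card_fun, card_DD, Nat.card_fin]

theorem Fam.card_sub (F : Fam n) : Nat.card F.sub = ∏ l, Nat.card (F.P l) := by
  rw [← Nat.card_pi]
  exact Nat.card_congr
    { toFun := fun a l => ⟨(a : Fin n → DD) l, Fam.mem_sub.mp a.2 l⟩
      invFun := fun f => ⟨fun l => f l, Fam.mem_sub.mpr fun l => (f l).2⟩
      left_inv := fun a => rfl
      right_inv := fun f => rfl }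

theorem Fam.card_of_some (F : Fam n) (h : ∀ l, F.ty l ≠ none) : Nat.card F.sub = 4 ^ n := by
  rw [Fam.card_sub, Finset.prod_congr rfl (g := fun _ => 4) fun l _ => ?_, Finset.prod_const,
    Finset.card_univ, Fintype.card_fin]
  unfold Fam.P
  cases e : F.ty l with
  | none => exact absurd e (h l)
  | some c => exact card_kl c

theorem Fam.card_fill (F : Fam n) (b : Bool) : Nat.card (F.fill b).sub = 4 ^ n :=
  Fam.card_of_some _ fun _ => Option.some_ne_none _

theorem Fam.two_mul_card_one (k : Fin n) (b : Bool) : 2 * Nat.card (Fam.one n k b).sub = 8 ^ n := by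
  rw [Fam.card_sub, ← Finset.mul_prod_erase _ _ (Finset.mem_univ k),
    Finset.prod_congr rfl (g := fun _ => 8) fun l hl => ?_, Finset.prod_const,
    Finset.card_erase_of_mem (Finset.mem_univ k), Finset.card_univ, Fintype.card_fin,
    show Nat.card ((Fam.one n k b).P k) = 4 from by
      rw [show (Fam.one n k b).P k = kl b by simp [Fam.P, Fam.one]]; exact card_kl b, ← mul_assoc,
    show (2 * 4 : ℕ) = 8 from rfl, mul_comm, ← pow_succ, Nat.sub_add_cancel (Fin.pos k)]
  have := Finset.ne_of_mem_erase hl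
  rw [show (Fam.one n k b).P l = ⊤ by simp [Fam.P, Fam.one, this], Subgroup.card_top, card_DD]

theorem Fam.bad_one {k : Fin n} {b : Bool} (d : Fin n → DD) :
    (Fam.one n k b).bad d = ((Fam.all n).bad d).erase k := by
  ext l
  by_cases hl : l = k <;> simp [Fam.bad, Fam.one, Fam.all, hl]

theorem pd_block (a : Fin n → DD) :
    pairHom n r (phi0 n r a) = 1 ↔ ∀ l, pd (a l) = 1 := by
  rw [pairHom_phi0]
  constructor
  · intro h l
    refine Equiv.ext fun i => ?_
    exact congrArg Prod.snd (congrFun (congrArg DFunLike.coe h) (l, i))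
  · intro h
    refine Equiv.ext fun ⟨l, i⟩ => ?_
    show (l, pd (a l) i) = (l, i)
    rw [h l]; rfl

/-- The group with the given centraliser of a Sylow-central involution. -/
structure Ctx (n r : ℕ) (G : Type*) [Group G] where
  /-- The identification of the centraliser. -/
  ι : C0 n r →* G
  /-- The involution. -/
  t : G
  inj : Function.Injective ι
  hr : r ≤ 1
  range_eq : ι.range = Subgroup.centralizer {t}
  t_eq : t = ι (phi0 n r (zsum Finset.univ))
  odd : Odd (Subgroup.centralizer {t}).index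
  noTwo : ∀ H : Subgroup G, H.Normal → H.index ≠ 2

namespace Ctx

variable {G : Type*} [Group G] [Finite G] (X : Ctx n r G)

/-- The power of the dihedral group in the group. -/
def Φ : (Fin n → DD) →* G := X.ι.comp (phi0 n r)

/-- Its image. -/
def J : Subgroup G := X.Φ.range

/-- Membership in the centraliser. -/
abbrev InC (g : G) : Prop := g ∈ Subgroup.centralizer ({X.t} : Set G)

theorem Φ_injective : Function.Injective X.Φ := X.inj.comp phi0_injective

theorem inC_ι (c : C0 n r) : X.InC (X.ι c) := X.range_eq.le ⟨c, rfl⟩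

theorem exists_ι {g : G} (h : X.InC g) : ∃ c, X.ι c = g := by
  rw [InC, ← X.range_eq] at h
  exact h

theorem J_le_cent : X.J ≤ Subgroup.centralizer {X.t} := by
  rintro _ ⟨d, rfl⟩
  exact X.inC_ι _

theorem isPGroup_J : IsPGroup 2 X.J :=
  (IsPGroup.of_card (n := 3 * n) (by rw [card_pow, pow_mul]; norm_num) :
    IsPGroup 2 (Fin n → DD)).of_surjective X.Φ.rangeRestrict X.Φ.rangeRestrict_surjective

/-- Conjugating a family of coordinates into a two-subgroup normalising the power puts it in the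
power. -/
theorem conj_mem_J_aux {Q : Subgroup G} (hQ : IsPGroup 2 Q) (hQC : Q ≤ Subgroup.centralizer {X.t})
    (hJQ : X.J ≤ Q) (hQN : ∀ q ∈ Q, ∀ d, q * X.Φ d * q⁻¹ ∈ X.J) (F : Fam n) (g : G)
    (h : ∀ d ∈ F.sub, g * X.Φ d * g⁻¹ ∈ Q) {d : Fin n → DD} (hd : d ∈ F.sub) :
    g * X.Φ d * g⁻¹ ∈ X.J := by
  have key : ∀ b, ∀ a ∈ (F.fill b).sub, g * X.Φ a * g⁻¹ ∈ X.J := by
    intro b
    set f : (Fin n → DD) →* G := (MulAut.conj g).toMonoidHom.comp X.Φ with hf
    have hfi : Function.Injective f := (MulAut.conj g).injective.comp X.Φ_injective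
    set W : Subgroup G := (F.fill b).sub.map f
    have hWQ : W ≤ Q := by
      rintro _ ⟨a, ha, rfl⟩
      exact h a (F.fill_le b ha)
    have hWr : W ≤ X.ι.range := X.range_eq ▸ hWQ.trans hQC
    have hWcard : Nat.card (W.comap X.ι) = 4 ^ n := by
      rw [← Subgroup.card_map_of_injective X.inj, Subgroup.map_comap_eq_self hWr,
        Subgroup.card_map_of_injective hfi, Fam.card_fill]
    have hle := mem_range_of_elementary X.hr (V := W.comap X.ι) (Q := Q.comap X.ι)
      (fun c hc => blocky_of_normalizes fun d => by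
        obtain ⟨d', hd'⟩ := hQN _ (hWQ hc) d
        refine ⟨d', X.inj ?_⟩
        rw [map_mul, map_mul]
        show X.ι c * X.Φ d = X.Φ d' * X.ι c
        rw [hd', inv_mul_cancel_right])
      (fun c hc => X.inj (by
        obtain ⟨a, ha, hac⟩ := hc
        rw [map_mul, map_one, ← hac, ← map_mul, (F.fill_sq b) ha, map_one]))
      hWcard (hQ.comap_of_injective X.ι X.inj) (Subgroup.comap_mono hWQ)
      (by rintro _ ⟨e, rfl⟩; exact hJQ ⟨e, rfl⟩)
    intro a ha
    obtain ⟨c, hc⟩ := hWr ⟨a, ha, rfl⟩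
    obtain ⟨e, he⟩ := hle (show c ∈ W.comap X.ι from ⟨a, ha, hc.symm⟩)
    refine ⟨e, ?_⟩
    show X.ι (phi0 n r e) = _
    rw [he, hc]
    rfl
  obtain ⟨a, ha, c, hc, rfl⟩ := F.exists_fill hd
  rw [map_mul, show g * (X.Φ a * X.Φ c) * g⁻¹ = g * X.Φ a * g⁻¹ * (g * X.Φ c * g⁻¹) by group]
  exact X.J.mul_mem (key false a ha) (key true c hc)

/-- An element mapping a family into itself induces an automorphism of it. -/
theorem exists_fam_equiv (F : Fam n) (g : G)
    (h : ∀ d ∈ F.sub, ∃ d' ∈ F.sub, X.Φ d' = g * X.Φ d * g⁻¹) :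
    ∃ θ : F.sub ≃* F.sub, ∀ a, X.Φ (θ a : Fin n → DD) = g * X.Φ (a : Fin n → DD) * g⁻¹ := by
  have h' : ∀ a : F.sub, ∃ c : F.sub, X.Φ (c : Fin n → DD) = g * X.Φ (a : Fin n → DD) * g⁻¹ := fun a => by
    obtain ⟨d', h1, h2⟩ := h a a.2
    exact ⟨⟨d', h1⟩, h2⟩
  choose f hf using h'
  have hfm : ∀ a b, f (a * b) = f a * f b := fun a b => Subtype.ext (X.Φ_injective (by
    rw [hf, Subgroup.coe_mul, Subgroup.coe_mul, map_mul, map_mul, hf, hf]; group))
  have hfb : Function.Bijective (MonoidHom.mk' f hfm) := Finite.injective_iff_bijective.mp fun a b hab => by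
    have e : f a = f b := hab
    exact Subtype.ext (X.Φ_injective (mul_left_cancel (mul_right_cancel
      ((hf a).symm.trans ((congrArg (fun c : F.sub => X.Φ (c : Fin n → DD)) e).trans (hf b))))))
  exact ⟨MulEquiv.ofBijective (MonoidHom.mk' f hfm) hfb, hf⟩

theorem inC_of_fix {g : G} (h : g * X.t * g⁻¹ = X.t) : X.InC g :=
  Subgroup.mem_centralizer_singleton_iff.mpr (mul_inv_eq_iff_eq_mul.mp h)

theorem filter_all : (Finset.univ.filter fun l => (Fam.all n).ty l = none) = Finset.univ :=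
  Finset.filter_true_of_mem fun _ _ => rfl

/-- The normaliser of the power centralises the involution. -/
theorem inC_of_normalizes {g : G} (h : ∀ d, g * X.Φ d * g⁻¹ ∈ X.J) : X.InC g := by
  obtain ⟨θ, hθ⟩ := X.exists_fam_equiv (Fam.all n) g fun d _ => by
    obtain ⟨d', hd'⟩ := h d
    exact ⟨d', Fam.mem_all d', hd'⟩
  refine X.inC_of_fix ?_
  have e := hθ ⟨zsum _, (Fam.all n).zsum_mem (Finset.univ.filter fun l => (Fam.all n).ty l = none)⟩
  rw [(Fam.all n).map_zsum_all θ] at e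
  simp only [filter_all] at e
  rw [X.t_eq]
  exact e.symm

/-- A two-subgroup with the power normalises it. -/
theorem two_group_le {P : Subgroup G} (hP : IsPGroup 2 P) (hJP : X.J ≤ P) :
    (∀ q ∈ P, ∀ d, q * X.Φ d * q⁻¹ ∈ X.J) ∧ P ≤ Subgroup.centralizer {X.t} := by
  haveI := Fact.mk Nat.prime_two
  haveI : Group.IsNilpotent P := hP.isNilpotent
  set Q : Subgroup G := P ⊓ Subgroup.normalizer (X.J : Set G) with hQ
  have hQN : ∀ q ∈ Q, ∀ d, q * X.Φ d * q⁻¹ ∈ X.J := fun q hq d =>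
    (Subgroup.mem_normalizer_iff.mp hq.2 _).mp ⟨d, rfl⟩
  have hQC : Q ≤ Subgroup.centralizer {X.t} := fun q hq => X.inC_of_normalizes (hQN q hq)
  have hJQ : X.J ≤ Q := le_inf hJP Subgroup.le_normalizer
  have htop : Q.subgroupOf P = ⊤ := by
    by_contra hne
    obtain ⟨g, hg, hgQ⟩ := SetLike.exists_of_lt
      (Group.normalizerCondition_of_isNilpotent (Q.subgroupOf P) (lt_of_le_of_ne le_top hne))
    refine hgQ ?_
    have h1 : ∀ d, (g : G) * X.Φ d * (g : G)⁻¹ ∈ X.J := fun d =>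
      X.conj_mem_J_aux (hP.to_le inf_le_left) hQC hJQ hQN (Fam.all n) g (fun e _ =>
        (Subgroup.mem_normalizer_iff.mp hg ⟨X.Φ e, hJP ⟨e, rfl⟩⟩).mp (hJQ ⟨e, rfl⟩)) (Fam.mem_all d)
    refine ⟨g.2, Subgroup.mem_normalizer_fintype (fun y hy => ?_)⟩
    obtain ⟨d, rfl⟩ := hy
    exact h1 d
  have hPQ : P ≤ Q := fun q hq => by
    have : (⟨q, hq⟩ : P) ∈ Q.subgroupOf P := by rw [htop]; trivial
    exact this
  exact ⟨fun q hq => hQN q (hPQ hq), hPQ.trans hQC⟩

theorem conj_mem_J {P : Subgroup G} (hP : IsPGroup 2 P) (hJP : X.J ≤ P) (F : Fam n) (g : G)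
    (h : ∀ d ∈ F.sub, g * X.Φ d * g⁻¹ ∈ P) {d : Fin n → DD} (hd : d ∈ F.sub) :
    g * X.Φ d * g⁻¹ ∈ X.J :=
  X.conj_mem_J_aux hP (X.two_group_le hP hJP).2 hJP (X.two_group_le hP hJP).1 F g h hd

/-- Control of a family in a subgroup containing the power. -/
theorem exists_move_into {H : Subgroup G} (hJ : X.J ≤ H) (F : Fam n) (g : G)
    (h : ∀ d ∈ F.sub, g * X.Φ d * g⁻¹ ∈ H) :
    ∃ c ∈ H, ∀ d ∈ F.sub, c * g * X.Φ d * (c * g)⁻¹ ∈ X.J := by
  haveI := Fact.mk Nat.prime_two
  obtain ⟨P, hP⟩ := (X.isPGroup_J.comap_of_injective H.subtype H.subtype_injective).exists_le_sylow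
  set W : Subgroup G := F.sub.map ((MulAut.conj g).toMonoidHom.comp X.Φ) with hW
  have hWp : IsPGroup 2 W :=
    ((IsPGroup.of_card (n := 3 * n) (by rw [card_pow, pow_mul]; norm_num) :
      IsPGroup 2 (Fin n → DD)).to_subgroup F.sub).map _
  obtain ⟨P', hP'⟩ := (hWp.comap_of_injective H.subtype H.subtype_injective).exists_le_sylow
  obtain ⟨c, hc⟩ := MulAction.exists_smul_eq H P' P
  refine ⟨c, c.2, fun d hd => X.conj_mem_J (P.2.map H.subtype) ?_ F _ ?_ hd⟩
  · intro x hx
    exact ⟨⟨x, hJ hx⟩, hP hx, rfl⟩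
  · intro e he
    have h1 : (⟨g * X.Φ e * g⁻¹, h e he⟩ : H) ∈ (P' : Subgroup H) := hP' ⟨e, he, rfl⟩
    refine ⟨c * ⟨g * X.Φ e * g⁻¹, h e he⟩ * c⁻¹, ?_, ?_⟩
    · rw [← hc, Sylow.coe_subgroup_smul]
      exact ⟨_, h1, rfl⟩
    · show (c : G) * (g * X.Φ e * g⁻¹) * (c : G)⁻¹ = _
      group

/-- Control of the power in a subgroup containing it. -/
theorem exists_normalizing {H : Subgroup G} (hJ : X.J ≤ H) (g : G)
    (h : ∀ d, g * X.Φ d * g⁻¹ ∈ H) :
    ∃ c ∈ H, (∀ d, c * g * X.Φ d * (c * g)⁻¹ ∈ X.J) ∧ X.InC (c * g) := by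
  obtain ⟨c, hc, hcg⟩ := X.exists_move_into hJ (Fam.all n) g fun d _ => h d
  exact ⟨c, hc, fun d => hcg d (Fam.mem_all d), X.inC_of_normalizes fun d => hcg d (Fam.mem_all d)⟩

theorem zsum_comm (s : Finset (Fin n)) (d : Fin n → DD) : d * zsum s = zsum s * d := funext fun l => by
  refine isC_comm _ _ ?_
  unfold zsum IsC
  split <;> simp

/-- Conjugate products of central involutions have the same length. -/
theorem card_eq_of_conj {g : G} {s s' : Finset (Fin n)}
    (h : g * X.Φ (zsum s) * g⁻¹ = X.Φ (zsum s')) : s.card = s'.card := by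
  have hJ : ∀ (u : Finset (Fin n)) d, X.Φ d * X.Φ (zsum u) = X.Φ (zsum u) * X.Φ d := fun u d => by
    rw [← map_mul, ← map_mul, zsum_comm]
  obtain ⟨c, hc, hcg, -⟩ := X.exists_normalizing (H := Subgroup.centralizer {X.Φ (zsum s')})
    (by rintro _ ⟨d, rfl⟩; exact Subgroup.mem_centralizer_singleton_iff.mpr (hJ s' d)) g fun d => by
      rw [Subgroup.mem_centralizer_singleton_iff, ← h]
      calc g * X.Φ d * g⁻¹ * (g * X.Φ (zsum s) * g⁻¹) = g * (X.Φ d * X.Φ (zsum s)) * g⁻¹ := by group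
        _ = g * (X.Φ (zsum s) * X.Φ d) * g⁻¹ := by rw [hJ]
        _ = _ := by group
  obtain ⟨θ, hθ⟩ := X.exists_fam_equiv (Fam.all n) (c * g) fun d _ => by
    obtain ⟨d', hd'⟩ := hcg d
    exact ⟨d', Fam.mem_all d', hd'⟩
  obtain ⟨f, -, hf⟩ := (Fam.all n).map_zsum θ
  obtain ⟨h1, h2⟩ := hf s fun l _ => rfl
  have e := hθ ⟨zsum s, (Fam.all n).zsum_mem s⟩
  rw [h1, show c * g * X.Φ (zsum s) * (c * g)⁻¹ = c * (g * X.Φ (zsum s) * g⁻¹) * c⁻¹ by group, h,
    Subgroup.mem_centralizer_singleton_iff.mp hc, mul_inv_cancel_right] at e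
  rw [← zsum_injective (X.Φ_injective e), h2]

/-- The character of the centraliser. -/
noncomputable def chiC (b : Bool) : Subgroup.centralizer ({X.t} : Set G) →* ℤˣ :=
  (chi b).comp ((MonoidHom.ofInjective X.inj).trans (MulEquiv.subgroupCongr X.range_eq)).symm.toMonoidHom

theorem chiC_apply (b : Bool) (c : C0 n r) {h : X.ι c ∈ Subgroup.centralizer ({X.t} : Set G)} :
    X.chiC b ⟨X.ι c, h⟩ = chi b c := by
  refine congrArg (chi b) ?_
  rw [MulEquiv.coe_toMonoidHom, MulEquiv.symm_apply_eq]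
  exact Subtype.ext rfl

theorem chi_conj {b : Bool} {u c : C0 n r} {g : G} (hg : X.InC g)
    (h : g * X.ι u * g⁻¹ = X.ι c) : chi b c = chi b u := by
  obtain ⟨w, rfl⟩ := X.exists_ι hg
  rw [← map_inv, ← map_mul, ← map_mul] at h
  rw [← X.inj h, map_mul, map_mul, map_inv, mul_inv_cancel_comm]

/-- Conjugates of the plus subgroup within the power coincide with it. -/
theorem plus_conj (g : G) (h : ∀ d ∈ (Fam.kk n false).sub, g * X.Φ d * g⁻¹ ∈ X.J)
    {d : Fin n → DD} (hd : d ∈ (Fam.kk n false).sub) :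
    ∃ d' ∈ (Fam.kk n false).sub, X.Φ d' = g * X.Φ d * g⁻¹ := by
  classical
  set E := (Fam.kk n false).sub with hE
  set f : (Fin n → DD) →* G := (MulAut.conj g).toMonoidHom.comp X.Φ with hf
  have hfi : Function.Injective f := (MulAut.conj g).injective.comp X.Φ_injective
  set A : Subgroup (Fin n → DD) := (E.map f).comap X.Φ with hA
  have hEJ : E.map f ≤ X.Φ.range := by
    rintro _ ⟨e, he, rfl⟩
    exact h e he
  have hmap : A.map X.Φ = E.map f := Subgroup.map_comap_eq_self hEJ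
  have hAcard : Nat.card A = 4 ^ n := by
    rw [← Subgroup.card_map_of_injective X.Φ_injective, hmap, Subgroup.card_map_of_injective hfi]
    exact Fam.card_of_some _ fun _ => Option.some_ne_none _
  have hAsq : ∀ a ∈ A, a * a = 1 := by
    rintro a ⟨e, he, hea⟩
    refine X.Φ_injective ?_
    rw [map_mul, map_one, ← hea, ← map_mul, show e * e = 1 from funext fun l =>
      kl_sq _ _ (Fam.mem_kk.mp he l), map_one]
  choose ks hks using fun l => le_kl (A.map (Pi.evalMonoidHom (fun _ : Fin n => DD) l)) (by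
    rintro _ ⟨a, ha, rfl⟩
    exact congrFun (hAsq a ha) l)
  have hAF : A = (⟨fun l => some (ks l)⟩ : Fam n).sub :=
    Subgroup.eq_of_le_of_card_ge (fun a ha => Fam.mem_sub.mpr fun l => hks l ⟨a, ha, rfl⟩)
      (by rw [hAcard, Fam.card_of_some _ fun _ => Option.some_ne_none _])
  have hconjA : ∀ a ∈ A, ∀ x, x * a * x⁻¹ ∈ A := by
    intro a ha x
    rw [hAF, Fam.mem_sub] at ha ⊢
    exact fun l => kl_normal (ks l) (a l) (ha l) (x l)
  have hconjE : ∀ a ∈ E, ∀ x, x * a * x⁻¹ ∈ E := by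
    intro a ha x
    rw [hE, Fam.mem_kk] at ha ⊢
    exact fun l => kl_normal false (a l) (ha l) (x l)
  obtain ⟨c, hc, hcg, hcgC⟩ := X.exists_normalizing (H := Subgroup.normalizer ((E.map f : Subgroup G) : Set G))
    (by
      rintro _ ⟨x, rfl⟩
      refine Subgroup.mem_normalizer_fintype fun y hy => ?_
      rw [SetLike.mem_coe, ← hmap] at hy ⊢
      obtain ⟨a, ha, rfl⟩ := hy
      exact ⟨x * a * x⁻¹, hconjA a ha x, by rw [map_mul, map_mul, map_inv]⟩)
    g fun x => by
      refine Subgroup.mem_normalizer_fintype fun y hy => ?_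
      obtain ⟨a, ha, rfl⟩ := hy
      refine ⟨x * a * x⁻¹, hconjE a ha x, ?_⟩
      show g * X.Φ (x * a * x⁻¹) * g⁻¹ = g * X.Φ x * g⁻¹ * (g * X.Φ a * g⁻¹) * (g * X.Φ x * g⁻¹)⁻¹
      rw [map_mul, map_mul, map_inv]
      group
  obtain ⟨w, hw⟩ := X.exists_ι hcgC
  have hfalse : ∀ l, ks l = false := by
    intro l
    by_contra hl
    have hmemA : Pi.mulSingle l xd ∈ A := by
      rw [hAF, Fam.mem_sub]
      intro j
      rcases eq_or_ne j l with rfl | hj
      · rw [Pi.mulSingle_eq_same]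
        show xd ∈ kl (ks j)
        rw [Bool.eq_true_of_not_eq_false hl]
        exact gen_mem_kl true
      · rw [Pi.mulSingle_eq_of_ne hj]; exact one_mem _
    have h1 : X.Φ (Pi.mulSingle l xd) ∈ E.map f := hmap ▸ Subgroup.mem_map_of_mem _ hmemA
    obtain ⟨e, he, hee⟩ := ((Subgroup.mem_normalizer_iff''.mp hc) _).mp h1
    have h2 : pairHom n r (phi0 n r (Pi.mulSingle l xd)) =
        pairHom n r (w * phi0 n r e * w⁻¹) := by
      refine congrArg _ (X.inj ?_)
      rw [map_mul, map_mul, map_inv, hw]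
      show X.Φ _ = c * g * X.Φ e * (c * g)⁻¹
      have hee' : g * X.Φ e * g⁻¹ = c⁻¹ * X.Φ (Pi.mulSingle l xd) * c := hee
      rw [show c * g * X.Φ e * (c * g)⁻¹ = c * (g * X.Φ e * g⁻¹) * c⁻¹ by group, hee']
      group
    rw [map_mul, map_mul, map_inv, (pd_block e).mpr (fun j => pd_kl_false _ (Fam.mem_kk.mp he j)),
      mul_one, mul_inv_cancel] at h2
    exact pd_xd (by simpa using (pd_block _).mp h2 l)
  have hgd : g * X.Φ d * g⁻¹ ∈ A.map X.Φ := hmap ▸ ⟨d, hd, rfl⟩
  obtain ⟨a, ha, hae⟩ := hgd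
  refine ⟨a, ?_, hae⟩
  rw [hE, Fam.mem_kk]
  intro l
  have := hks l ⟨a, ha, rfl⟩
  rwa [hfalse l] at this

end Ctx

end CfsgLib.AltInvClasses
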