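import Cfsg.Agent.Lib.AltInvClasses.Fusion
import Mathlib.Logic.Equiv.Fintype

/-!
# The classes of involutions
-/

set_option autoImplicit false
set_option synthInstance.maxSize 1000
set_option linter.unusedSectionVars false
set_option linter.style.haveILetI false

namespace CfsgLib.AltInvClasses

open Equiv

variable {n r : ℕ}

theorem isC_one_or (d : Fin n → DD) (h : (Fam.all n).bad d = ∅) :
    d = zsum (Finset.univ.filter fun l => d l = zd) := by
  funext l
  have hl : IsC (d l) := by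
    by_contra hc
    exact Finset.notMem_empty l (h ▸ Finset.mem_filter.mpr ⟨Finset.mem_univ l, rfl, hc⟩)
  by_cases e : d l = zd
  · simp [zsum, e]
  · simp [zsum, e, isC_cases _ hl e]

theorem mem_bad_all {d : Fin n → DD} {l : Fin n} : l ∈ (Fam.all n).bad d ↔ ¬ IsC (d l) := by
  simp [Fam.bad, Fam.all]

theorem Fam.one_normal {k : Fin n} {b : Bool} {a : Fin n → DD} (ha : a ∈ (Fam.one n k b).sub)
    (x : Fin n → DD) : x * a * x⁻¹ ∈ (Fam.one n k b).sub := by
  rw [Fam.mem_one] at ha ⊢
  exact kl_normal b _ ha (x k)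

theorem Fam.comm_one {k : Fin n} {b : Bool} {a : Fin n → DD} (ha : a ∈ (Fam.one n k b).sub) :
    a * Pi.mulSingle k (gen b) = Pi.mulSingle k (gen b) * a := by
  funext l
  by_cases hl : l = k
  · subst hl
    rw [Pi.mul_apply, Pi.mul_apply, Pi.mulSingle_eq_same]
    exact kl_comm b _ (Fam.mem_one.mp ha) _ (gen_mem_kl b)
  · simp [hl]

namespace Ctx

variable {G : Type*} [Group G] [Finite G] (X : Ctx n r G)

theorem exists_move (k : Fin n) (b : Bool) :
    ∃ g, (∀ d ∈ (Fam.one n k b).sub, ∃ d' ∈ (Fam.one n k b).sub, X.Φ d' = g * X.Φ d * g⁻¹) ∧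
      ¬ X.InC g := by
  classical
  by_contra hcon
  push Not at hcon
  set F := Fam.one n k b with hF
  set q : Fin n → DD := Pi.mulSingle k (gen b) with hq
  have hqF : q ∈ F.sub := Fam.mem_one.mpr (by rw [hq, Pi.mulSingle_eq_same]; exact gen_mem_kl b)
  have hq1 : q * q = 1 := by
    rw [hq, ← Pi.mulSingle_mul, kl_sq b _ (gen_mem_kl b), Pi.mulSingle_one]
  have huC : X.Φ q ∈ Subgroup.centralizer ({X.t} : Set G) := X.inC_ι _
  have hne : X.chiC b ⟨X.Φ q, huC⟩ ≠ 1 := by
    rw [show X.chiC b ⟨X.Φ q, huC⟩ = chi b (phi0 n r q) from X.chiC_apply b _, hq, chi_single]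
    decide
  have htr : MonoidHom.transfer (X.chiC b) (X.Φ q) = 1 := by
    by_contra h
    obtain ⟨M, hM1, hM2, -⟩ := Transfer.exists_index_two_of_hom _ h
    exact X.noTwo M hM1 hM2
  set Y : Subgroup G := F.sub.map X.Φ with hY
  have hYJ : Y ≤ X.J := by
    rintro _ ⟨d, -, rfl⟩
    exact ⟨d, rfl⟩
  obtain ⟨a, haY, ha, ha1⟩ := Transfer.exists_conj_ker_of_transfer_eq_one (X.chiC b)
    Transfer.intUnits_unique (by rw [← map_mul, hq1, map_one]) huC hne X.odd htr Y
    (X.isPGroup_J.to_le hYJ) (by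
      rintro _ ⟨d, hd, rfl⟩
      rw [Subgroup.mem_centralizer_singleton_iff, ← map_mul, ← map_mul, Fam.comm_one hd])
  obtain ⟨c, hc, hcJ⟩ := X.exists_move_into X.J_le_cent F a⁻¹ fun d hd => by
    rw [inv_inv]
    exact haY _ ⟨d, hd, rfl⟩
  set g := c * a⁻¹ with hg
  choose ψ hψ using fun d : F.sub => hcJ d d.2
  have hψm : ∀ x y, ψ (x * y) = ψ x * ψ y := fun x y => X.Φ_injective (by
    rw [hψ, Subgroup.coe_mul, map_mul, map_mul, hψ, hψ]; group)
  set f : F.sub →* (Fin n → DD) := MonoidHom.mk' ψ hψm with hf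
  have hfi : Function.Injective f := fun x y h => by
    have e : ψ x = ψ y := h
    exact Subtype.ext (X.Φ_injective (mul_left_cancel (mul_right_cancel
      ((hψ x).symm.trans ((congrArg X.Φ e).trans (hψ y))))))
  set d' := ψ ⟨q, hqF⟩ with hd'
  have hd'q : X.Φ d' = g * X.Φ q * g⁻¹ := hψ _
  have hchi : chi b (phi0 n r d') = 1 := by
    obtain ⟨w, hw⟩ := X.exists_ι ha
    rw [show (⟨a⁻¹ * X.Φ q * a, ha⟩ : Subgroup.centralizer ({X.t} : Set G)) = ⟨X.ι w, X.inC_ι w⟩ from
      Subtype.ext hw.symm, X.chiC_apply] at ha1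
    rw [X.chi_conj (u := w) hc ?_, ha1]
    show _ = X.Φ d'
    rw [hd'q, hw, hg]
    group
  have hfA : ∀ x ∈ f.range, x * d' = d' * x := by
    rintro _ ⟨y, rfl⟩
    show ψ y * ψ _ = ψ _ * ψ y
    rw [← hψm, ← hψm]
    exact congrArg ψ (Subtype.ext (Fam.comm_one y.2))
  have hcardA : 2 * Nat.card f.range = 8 ^ n := by
    rw [← Nat.card_congr (MonoidHom.ofInjective hfi).toEquiv, hF, Fam.two_mul_card_one]
  have hback : ∀ d, X.Φ d ∈ (F.sub.map ((MulAut.conj g).toMonoidHom.comp X.Φ)) ↔ d ∈ f.range := by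
    intro d
    constructor
    · rintro ⟨e, he, hee⟩
      exact ⟨⟨e, he⟩, X.Φ_injective ((hψ ⟨e, he⟩).trans hee)⟩
    · rintro ⟨e, rfl⟩
      exact ⟨e, e.2, (hψ e).symm⟩
  have hbad : ((Fam.all n).bad d').card ≤ 1 := by
    have e := (Fam.all n).card_cent (Fam.mem_all d')
    have hall : Nat.card (Fam.all n).sub = 8 ^ n := by
      rw [show (Fam.all n).sub = ⊤ from top_le_iff.mp fun d _ => Fam.mem_all d, Subgroup.card_top, card_pow]
    rw [hall] at e
    have hle : Nat.card f.range ≤
        Nat.card {x : (Fam.all n).sub // (x : Fin n → DD) * d' = d' * x} :=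
      Nat.card_le_card_of_injective (fun x => ⟨⟨x, Fam.mem_all _⟩, hfA x x.2⟩) fun x y h =>
        Subtype.ext (congrArg (fun u : {x : (Fam.all n).sub // (x : Fin n → DD) * d' = d' * x} =>
          (u.1 : Fin n → DD)) h)
    by_contra h
    have h4 : 2 ^ 2 ≤ 2 ^ ((Fam.all n).bad d').card := Nat.pow_le_pow_right (by norm_num) (by omega)
    have := Nat.mul_le_mul hle h4
    have := Nat.card_pos (α := f.range)
    omega
  rcases Nat.le_one_iff_eq_zero_or_eq_one.mp hbad with h0 | h1
  · -- the image is normal of index two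
    have hidx : f.range.index = 2 := by
      have h := f.range.card_mul_index
      rw [card_pow, ← hcardA, mul_comm 2] at h
      exact Nat.eq_of_mul_eq_mul_left Nat.card_pos h
    have hnorm := Subgroup.normal_of_index_eq_two hidx
    have hJg : ∀ d, g⁻¹ * X.Φ d * g⁻¹⁻¹ ∈ Subgroup.centralizer ({X.t} : Set G) := by
      intro d
      refine hcon _ fun e he => ?_
      obtain ⟨e', he'⟩ := hnorm.conj_mem (f ⟨e, he⟩) ⟨_, rfl⟩ d
      refine ⟨e', e'.2, ?_⟩
      have h2 : g * X.Φ (e' : Fin n → DD) * g⁻¹ = X.Φ d * (g * X.Φ e * g⁻¹) * (X.Φ d)⁻¹ := by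
        rw [← hψ e', ← hψ ⟨e, he⟩, ← map_inv, ← map_mul, ← map_mul]
        exact congrArg X.Φ he'
      calc X.Φ (e' : Fin n → DD) = g⁻¹ * (g * X.Φ (e' : Fin n → DD) * g⁻¹) * g := by group
        _ = _ := by rw [h2]; group
    obtain ⟨c', hc', -, hc'C⟩ := X.exists_normalizing X.J_le_cent g⁻¹ hJg
    have hgC : X.InC g := by
      have := mul_mem (inv_mem hc') hc'C
      rw [inv_mul_cancel_left] at this
      exact inv_mem_iff.mp this
    have := X.chi_conj (b := b) (u := phi0 n r q) hgC hd'q.symm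
    rw [hchi, hq, chi_single] at this
    exact absurd this (by decide)
  · -- the image is the same kind of subgroup at another coordinate
    obtain ⟨k', hk'⟩ := Finset.card_eq_one.mp h1
    have hk'n : ¬ IsC (d' k') := mem_bad_all.mp (hk' ▸ Finset.mem_singleton_self k')
    have hd'1 : d' * d' = 1 := by
      rw [hd', ← hψm]
      exact (congrArg f (show (⟨q, hqF⟩ * ⟨q, hqF⟩ : F.sub) = 1 from Subtype.ext hq1)).trans f.map_one
    obtain ⟨b', hb'⟩ := not_isC_cases _ (congrFun hd'1 k') hk'n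
    have hA : f.range = (Fam.one n k' b').sub :=
      Subgroup.eq_of_le_of_card_ge
        (fun x hx => Fam.mem_one.mpr (mem_kl_of_comm b' _ _ hb' (congrFun (hfA x hx) k')))
        (by have := Fam.two_mul_card_one k' b'; omega)
    have hbb : b' = b := by
      by_contra hne'
      have hxd : ¬ gen false ∈ kl true := by decide +kernel
      cases b with
      | false =>
        have hb'' : b' = true := by simpa using hne'
        have hE : ∀ e ∈ (Fam.kk n false).sub, e ∈ F.sub := fun e he =>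
          Fam.mem_one.mpr (Fam.mem_kk.mp he k)
        set g' := g with hg'
        obtain ⟨θ, hθ⟩ := X.exists_fam_equiv (Fam.kk n false) g fun e he =>
          X.plus_conj g (fun u hu => ⟨ψ ⟨u, hE u hu⟩, hψ _⟩) he
        have hmem : Pi.mulSingle k' (gen false) ∈ (Fam.kk n false).sub := Fam.mem_kk.mpr fun l => by
          rcases eq_or_ne l k' with rfl | hl
          · rw [Pi.mulSingle_eq_same]; exact gen_mem_kl false
          · rw [Pi.mulSingle_eq_of_ne hl]; exact one_mem _
        obtain ⟨u, hu⟩ := θ.surjective ⟨_, hmem⟩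
        have h3 : Pi.mulSingle k' (gen false) ∈ f.range := by
          refine (hback _).mp ⟨u, hE u u.2, ?_⟩
          have := hθ u
          rw [hu] at this
          exact this.symm
        rw [hA, Fam.mem_one, Pi.mulSingle_eq_same, hb''] at h3
        exact hxd h3
      | true =>
        have hb'' : b' = false := by simpa using hne'
        have hE : ∀ e ∈ (Fam.kk n false).sub, ∃ u ∈ F.sub, X.Φ u = g⁻¹ * X.Φ e * g⁻¹⁻¹ := fun e he => by
          have hef : e ∈ f.range := by
            rw [hA, hb'']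
            exact Fam.mem_one.mpr (Fam.mem_kk.mp he k')
          obtain ⟨u, hu, hue⟩ := (hback e).mpr hef
          refine ⟨u, hu, ?_⟩
          rw [show X.Φ e = g * X.Φ u * g⁻¹ from hue.symm]
          group
        obtain ⟨θ, hθ⟩ := X.exists_fam_equiv (Fam.kk n false) g⁻¹ fun e he =>
          X.plus_conj g⁻¹ (fun v hv => by
            obtain ⟨u, -, hu⟩ := hE v hv
            exact ⟨u, hu⟩) he
        have hmem : Pi.mulSingle k (gen false) ∈ (Fam.kk n false).sub := Fam.mem_kk.mpr fun l => by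
          rcases eq_or_ne l k with rfl | hl
          · rw [Pi.mulSingle_eq_same]; exact gen_mem_kl false
          · rw [Pi.mulSingle_eq_of_ne hl]; exact one_mem _
        obtain ⟨v, hv⟩ := θ.surjective ⟨_, hmem⟩
        obtain ⟨u, hu, hue⟩ := hE v v.2
        have := hθ v
        rw [hv] at this
        rw [← this] at hue
        rw [X.Φ_injective hue] at hu
        have := Fam.mem_one.mp hu
        change (Pi.mulSingle k (gen false) : Fin n → DD) k ∈ kl true at this
        rw [Pi.mulSingle_eq_same] at this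
        exact hxd this
    subst hbb
    -- move the coordinate back
    set P := liftPair n r (blockPerm (swap k k')) with hP
    have hconj : ∀ d, X.ι P * X.Φ d * (X.ι P)⁻¹ = X.Φ (fun l => d ((swap k k').symm l)) := fun d => by
      show X.ι P * X.ι _ * (X.ι P)⁻¹ = X.ι _
      rw [← map_inv, ← map_mul, ← map_mul, hP, liftPair_conj]
    have hh : X.InC (X.ι P * g) := hcon _ fun e he => by
      refine ⟨fun l => f ⟨e, he⟩ ((swap k k').symm l), Fam.mem_one.mpr ?_, ?_⟩
      · show f ⟨e, he⟩ ((swap k k').symm k) ∈ kl b'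
        rw [symm_swap, swap_apply_left]
        exact Fam.mem_one.mp (hA.le ⟨_, rfl⟩)
      · rw [← hconj]
        show X.ι P * X.Φ (ψ ⟨e, he⟩) * _ = _
        rw [hψ]
        group
    have hgC : X.InC g := by
      have := mul_mem (inv_mem (X.inC_ι P)) hh
      rwa [inv_mul_cancel_left] at this
    have := X.chi_conj (b := b') (u := phi0 n r q) hgC hd'q.symm
    rw [hchi, hq, chi_single] at this
    exact absurd this (by decide)

theorem reduce {d : Fin n → DD} (hd : d * d = 1) {k : Fin n} (hk : k ∈ (Fam.all n).bad d) :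
    ∃ g d', d' * d' = 1 ∧ ((Fam.all n).bad d').card < ((Fam.all n).bad d).card ∧
      g * X.Φ d * g⁻¹ = X.Φ d' := by
  classical
  have hdk : ¬ IsC (d k) := mem_bad_all.mp hk
  obtain ⟨b, hb⟩ := not_isC_cases _ (congrFun hd k) hdk
  obtain ⟨g, hg, hgC⟩ := X.exists_move k b
  set F := Fam.one n k b with hF
  obtain ⟨θ, hθ⟩ := X.exists_fam_equiv F g hg
  have hdkl : d k ∈ kl b := by
    rcases hb with h | h <;> rw [h]
    · exact gen_mem_kl b
    · exact mul_mem (gen_mem_kl b) (zd_mem_kl b)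
  set v : F.sub := ⟨d, Fam.mem_one.mpr hdkl⟩ with hv
  -- the central involution at the cut coordinate becomes non-central there
  set z := θ (F.zc k) with hz
  have hzk : ¬ IsC ((z : Fin n → DD) k) := by
    intro hc
    have hz0 : F.bad (z : Fin n → DD) = ∅ := Finset.card_eq_zero.mp ((F.bad_map θ _).trans (by
      rw [Finset.card_eq_zero, Fam.bad, Finset.filter_eq_empty_iff]
      intro l _ hl
      refine hl.2 ?_
      rw [Fam.coe_zc]
      rcases eq_or_ne l k with rfl | hlk
      · rw [Pi.mulSingle_eq_same]; exact Or.inr rfl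
      · rw [Pi.mulSingle_eq_of_ne hlk]; exact Or.inl rfl))
    have hall : (Fam.all n).bad (z : Fin n → DD) = ∅ := by
      refine Finset.eq_empty_iff_forall_notMem.mpr fun l hl => ?_
      rcases eq_or_ne l k with rfl | hlk
      · exact mem_bad_all.mp hl hc
      · have := Fam.bad_one (k := k) (b := b) (z : Fin n → DD)
        rw [← hF, hz0] at this
        exact Finset.notMem_empty l (this ▸ Finset.mem_erase.mpr ⟨hlk, hl⟩)
    obtain ⟨s, hs⟩ : ∃ s, (z : Fin n → DD) = zsum s := ⟨_, isC_one_or _ hall⟩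
    have hsingle : (F.zc k : Fin n → DD) = zsum {k} := by
      rw [Fam.coe_zc, show ({k} : Finset (Fin n)) = insert k ∅ from rfl,
        zsum_insert (Finset.notMem_empty k), zsum_empty, mul_one]
    have hθk := hθ (F.zc k)
    rw [← hz, hs, hsingle] at hθk
    have hcard : s.card = 1 := (X.card_eq_of_conj hθk.symm).symm.trans (Finset.card_singleton k)
    obtain ⟨j, rfl⟩ := Finset.card_eq_one.mp hcard
    obtain ⟨f, hf, hfz⟩ := F.map_zsum θ
    set N := Finset.univ.filter fun l => F.ty l = none with hN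
    obtain ⟨h1, h2⟩ := hfz N fun l hl => (Finset.mem_filter.mp hl).2
    have hfix := F.map_zsum_all θ
    rw [← hN] at hfix
    have hjk : j = k := by
      by_contra hjk
      have hjN : j ∈ N := Finset.mem_filter.mpr ⟨Finset.mem_univ j, by simp [hF, Fam.one, hjk]⟩
      have himg : N.image f = N := zsum_injective (h1.symm.trans (congrArg Subtype.val hfix))
      obtain ⟨l, hl, hlj⟩ := Finset.mem_image.mp (himg.symm ▸ hjN)
      obtain ⟨h3, -⟩ := hfz {l} fun u hu => Finset.mem_singleton.mp hu ▸ (Finset.mem_filter.mp hl).2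
      rw [Finset.image_singleton, hlj, ← hs, Subtype.coe_inj] at h3
      have h4 := congrArg Subtype.val (θ.injective h3)
      rw [hsingle] at h4
      have hlk : l = k := Finset.singleton_injective (zsum_injective h4)
      rw [hN, Finset.mem_filter, hlk] at hl
      simp [hF, Fam.one] at hl
    rw [hjk] at hθk
    refine hgC (X.inC_of_fix ?_)
    have hu : Finset.univ = insert k N := by
      ext l
      by_cases hl : l = k <;> simp [hN, hF, Fam.one, hl]
    have hkN : k ∉ N := by simp [hN, hF, Fam.one]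
    have e1 : zsum (Finset.univ : Finset (Fin n)) = zsum {k} * zsum N := by
      rw [hu, zsum_insert hkN, ← hsingle, Fam.coe_zc]
    have e2 := hθ ⟨zsum N, F.zsum_mem N⟩
    rw [hfix] at e2
    have ht : X.t = X.Φ (zsum {k}) * X.Φ (zsum N) := by
      rw [X.t_eq, ← map_mul, ← e1]; rfl
    rw [ht, show g * (X.Φ (zsum {k}) * X.Φ (zsum N)) * g⁻¹ =
      (g * X.Φ (zsum {k}) * g⁻¹) * (g * X.Φ (zsum N) * g⁻¹) by group, ← hθk, ← e2]
  have hzk' : (z : Fin n → DD) k ∈ kl b := Fam.mem_one.mp z.2
  -- one of the two conjugates becomes central at the cut coordinate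
  obtain ⟨w, hwF, hwd, hwb⟩ : ∃ w : F.sub, (∃ x, X.Φ x * X.Φ d * (X.Φ x)⁻¹ = X.Φ (w : Fin n → DD)) ∧
      IsC ((θ w : Fin n → DD) k) ∧ F.bad (w : Fin n → DD) = F.bad d := by
    by_cases hc : IsC ((θ v : Fin n → DD) k)
    · exact ⟨v, ⟨1, by simp [hv]⟩, hc, rfl⟩
    refine ⟨v * F.zc k, ?_, ?_, ?_⟩
    · obtain ⟨a, ha1, ha2⟩ := gen_conj b
      refine ⟨Pi.mulSingle k a, ?_⟩
      rw [← map_inv, ← map_mul, ← map_mul]
      refine congrArg X.Φ (funext fun l => ?_)
      rw [Subgroup.coe_mul, Fam.coe_zc]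
      rcases eq_or_ne l k with rfl | hl
      · simp only [Pi.mul_apply, Pi.inv_apply, Pi.mulSingle_eq_same, hv]
        rcases hb with h | h <;> rw [h]
        · exact ha1
        · rw [ha2, gen_mul_zd]
      · simp [hl, hv]
    · rw [map_mul, Subgroup.coe_mul, Pi.mul_apply, ← hz]
      exact (isC_mul_iff b _ (Fam.mem_one.mp (θ v).2) _ hzk' hzk).mpr hc
    · show (Fam.one n k b).bad _ = (Fam.one n k b).bad d
      rw [Fam.bad_one, Fam.bad_one]
      ext l
      simp only [Finset.mem_erase, mem_bad_all]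
      refine and_congr_right fun hl => ?_
      rw [Subgroup.coe_mul, Fam.coe_zc, Pi.mul_apply, Pi.mulSingle_eq_of_ne hl, mul_one]
  obtain ⟨x, hx⟩ := hwF
  refine ⟨g * X.Φ x, (θ w : Fin n → DD), ?_, ?_, ?_⟩
  · refine X.Φ_injective ?_
    rw [map_mul, map_one, hθ, ← hx]
    rw [show g * (X.Φ x * X.Φ d * (X.Φ x)⁻¹) * g⁻¹ * (g * (X.Φ x * X.Φ d * (X.Φ x)⁻¹) * g⁻¹) =
      g * (X.Φ x * (X.Φ d * X.Φ d) * (X.Φ x)⁻¹) * g⁻¹ by group, ← map_mul, hd, map_one]
    group
  · have e : (Fam.all n).bad (θ w : Fin n → DD) = F.bad (θ w : Fin n → DD) := by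
      show _ = (Fam.one n k b).bad _
      rw [Fam.bad_one, Finset.erase_eq_of_notMem fun h => mem_bad_all.mp h hwd]
    rw [e, F.bad_map θ w, hwb]
    show ((Fam.one n k b).bad d).card < _
    rw [Fam.bad_one]
    exact Finset.card_lt_card (Finset.erase_ssubset hk)
  · rw [hθ, ← hx]
    group

theorem conj_to_zsum : ∀ m, ∀ d : Fin n → DD, ((Fam.all n).bad d).card = m → d * d = 1 →
    ∃ g s, g * X.Φ d * g⁻¹ = X.Φ (zsum s) := by
  intro m
  induction m using Nat.strong_induction_on with
  | _ m ih =>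
    intro d hm hd
    rcases ((Fam.all n).bad d).eq_empty_or_nonempty with h | ⟨k, hk⟩
    · exact ⟨1, _, by rw [← isC_one_or d h]; group⟩
    obtain ⟨g, d', h1, h2, h3⟩ := X.reduce hd hk
    obtain ⟨g', s, h4⟩ := ih _ (hm ▸ h2) d' rfl h1
    refine ⟨g' * g, s, ?_⟩
    rw [← h4, ← h3]
    group

theorem exists_perm_image (s u : Finset (Fin n)) (h : s.card = u.card) :
    ∃ π : Perm (Fin n), ∀ l, π.symm l ∈ s ↔ l ∈ u := by
  classical
  let e : {x // x ∈ s} ≃ {x // x ∈ u} := Finset.equivOfCardEq h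
  refine ⟨e.extendSubtype, fun l => ?_⟩
  constructor
  · intro hl
    have := e.extendSubtype_mem _ hl
    rwa [Equiv.apply_symm_apply] at this
  · intro hl
    by_contra hc
    have := e.extendSubtype_not_mem _ hc
    rw [Equiv.apply_symm_apply] at this
    exact this hl

theorem zsum_moved (s u : Finset (Fin n)) (h : s.card = u.card) :
    ∃ g, g * X.Φ (zsum s) * g⁻¹ = X.Φ (zsum u) := by
  obtain ⟨π, hπ⟩ := exists_perm_image s u h
  refine ⟨X.ι (liftPair n r (blockPerm π)), ?_⟩
  show X.ι _ * X.ι _ * (X.ι _)⁻¹ = X.ι _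
  rw [← map_inv, ← map_mul, ← map_mul, liftPair_conj]
  exact congrArg (fun e => X.ι (phi0 n r e)) (funext fun l => by simp only [zsum, hπ l])

/-- There is one class of involutions for each length. -/
theorem card_classes (S : Sylow 2 G) (hS : (S : Subgroup G) ≤ Subgroup.centralizer {X.t}) :
    Nat.card {c : ConjClasses G // ∃ x ∈ c.carrier, orderOf x = 2} = n := by
  classical
  haveI := Fact.mk Nat.prime_two
  have hord : ∀ s : Finset (Fin n), s.Nonempty → orderOf (X.Φ (zsum s)) = 2 := fun s ⟨l, hl⟩ => by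
    refine orderOf_eq_prime ?_ fun h => ?_
    · rw [pow_two, ← map_mul, show zsum s * zsum s = 1 from funext fun j => by
        by_cases hj : j ∈ s
        · simp [zsum, hj, zd_sq]
        · simp [zsum, hj], map_one]
    · have := congrFun (X.Φ_injective (h.trans (map_one X.Φ).symm)) l
      simp [zsum, hl, zd_ne_one] at this
  let cl : Fin n → {c : ConjClasses G // ∃ x ∈ c.carrier, orderOf x = 2} := fun l =>
    ⟨ConjClasses.mk (X.Φ (zsum (Finset.Iic l))), _, ConjClasses.mem_carrier_mk,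
      hord _ ⟨l, Finset.mem_Iic.mpr le_rfl⟩⟩
  refine (Nat.card_eq_of_bijective cl ⟨fun l j h => ?_, ?_⟩).symm.trans (Nat.card_fin n)
  · obtain ⟨g, hg⟩ := isConj_iff.mp (ConjClasses.mk_eq_mk_iff_isConj.mp (Subtype.ext_iff.mp h))
    have := X.card_eq_of_conj hg
    rw [Fin.card_Iic, Fin.card_Iic] at this
    exact Fin.ext (by omega)
  · rintro ⟨c, x, hx, hx2⟩
    have hxx : x * x = 1 := by rw [← pow_two, ← hx2, pow_orderOf_eq_one]
    obtain ⟨P, hP⟩ := (IsPGroup.of_card (p := 2) (n := 1)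
      (show Nat.card (Subgroup.zpowers x) = 2 ^ 1 by rw [Nat.card_zpowers, hx2, pow_one])).exists_le_sylow
    obtain ⟨a, ha⟩ := MulAction.exists_smul_eq G P S
    have hax : a * x * a⁻¹ ∈ Subgroup.centralizer ({X.t} : Set G) := hS (by
      rw [← ha, Sylow.coe_subgroup_smul]
      exact ⟨x, hP (Subgroup.mem_zpowers x), rfl⟩)
    obtain ⟨w, hw⟩ := X.exists_ι hax
    have hww : w * w = 1 := X.inj (by
      rw [map_mul, map_one, hw, show a * x * a⁻¹ * (a * x * a⁻¹) = a * (x * x) * a⁻¹ by group, hxx]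
      group)
    obtain ⟨u, d, hd⟩ := conj_into_range X.hr hww
    have hd1 : d * d = 1 := phi0_injective (r := r) (by
      rw [map_mul, map_one, hd, show u * w * u⁻¹ * (u * w * u⁻¹) = u * (w * w) * u⁻¹ by group, hww]
      group)
    obtain ⟨g, s, hg⟩ := X.conj_to_zsum _ d rfl hd1
    have hxs : IsConj x (X.Φ (zsum s)) := by
      refine isConj_iff.mpr ⟨g * X.ι u * a, ?_⟩
      rw [← hg, show X.Φ d = X.ι (u * w * u⁻¹) from congrArg X.ι hd, map_mul, map_mul, map_inv, hw]
      group
    have hs : s.Nonempty := by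
      rw [Finset.nonempty_iff_ne_empty]
      rintro rfl
      rw [zsum_empty, map_one] at hxs
      obtain ⟨a', ha'⟩ := isConj_iff.mp hxs.symm
      rw [mul_one, mul_inv_cancel] at ha'
      rw [← ha', orderOf_one] at hx2
      omega
    have hsc : 0 < s.card := Finset.card_pos.mpr hs
    have hsn : s.card ≤ n := (Finset.card_le_univ s).trans (Fintype.card_fin n).le
    obtain ⟨g', hg'⟩ := X.zsum_moved s (Finset.Iic ⟨s.card - 1, by omega⟩) (by
      rw [Fin.card_Iic]; show _ = s.card - 1 + 1; omega)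
    refine ⟨⟨s.card - 1, by omega⟩, Subtype.ext ?_⟩
    rw [ConjClasses.mem_carrier_iff_mk_eq] at hx
    exact (ConjClasses.mk_eq_mk_iff_isConj.mpr (hxs.trans (isConj_iff.mpr ⟨g', hg'⟩)).symm).trans hx

end Ctx

end CfsgLib.AltInvClasses
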