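import Cfsg.Agent.Lib.AltInvClasses.Dih
import Mathlib.GroupTheory.Perm.Cycle.Type
import Mathlib.GroupTheory.GroupAction.Quotient
import Mathlib.GroupTheory.PGroup

/-!
# The centraliser of a long involution in an alternating group, in coordinates
-/

set_option autoImplicit false
set_option synthInstance.maxSize 1000
set_option linter.unusedSectionVars false
set_option linter.style.haveILetI false

namespace CfsgLib.AltInvClasses

open Equiv

variable {n r : ℕ}

/-- The moved points, in blocks of two pairs. -/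
abbrev Pt (n : ℕ) := Fin n × Four

/-- The long involution on the moved points. -/
def alpha (n : ℕ) : Perm (Pt n) := Equiv.prodCongrRight fun _ => zPerm

/-- The group. -/
def C0 (n r : ℕ) : Subgroup (Perm (Pt n) × Perm (Fin (r + 2))) where
  carrier := {c | c.1 * alpha n = alpha n * c.1 ∧ Perm.sign c.1 = Perm.sign c.2}
  one_mem' := by simp
  mul_mem' := by
    rintro a b ⟨a1, a2⟩ ⟨b1, b2⟩
    refine ⟨?_, by simp [a2, b2]⟩
    show a.1 * b.1 * alpha n = alpha n * (a.1 * b.1)
    rw [mul_assoc, b1, ← mul_assoc, a1, mul_assoc]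
  inv_mem' := by
    rintro a ⟨a1, a2⟩
    exact ⟨(show Commute a.1 (alpha n) from a1).inv_left.eq, by simp [a2]⟩

theorem mem_C0 {c : Perm (Pt n) × Perm (Fin (r + 2))} :
    c ∈ C0 n r ↔ c.1 * alpha n = alpha n * c.1 ∧ Perm.sign c.1 = Perm.sign c.2 := Iff.rfl

/-- The action of a permutation of the pairs. -/
def prt (x : Pt n) : Fin n × Bool := (x.1, x.2.1)

/-- The action on the moved points. -/
abbrev fst (c : C0 n r) : Perm (Pt n) := c.1.1

/-- The action on the fixed points. -/
abbrev snd (c : C0 n r) : Perm (Fin (r + 2)) := c.1.2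

theorem prt_alpha (x : Pt n) : prt (alpha n x) = prt x := rfl

theorem prt_map (c : C0 n r) {x y : Pt n} (h : prt x = prt y) :
    prt (fst c x) = prt (fst c y) := by
  obtain ⟨k, i, j⟩ := x
  obtain ⟨k', i', j'⟩ := y
  obtain ⟨rfl, rfl⟩ := Prod.mk.injEq .. |>.mp h
  have hc : ∀ u, fst c (alpha n u) = alpha n (fst c u) := fun u =>
    congrFun (congrArg DFunLike.coe c.2.1) u
  by_cases hj : j = j'
  · rw [hj]
  · have e : ((k, i, j') : Pt n) = alpha n (k, i, j) := by
      revert hj; cases j <;> cases j' <;> simp [alpha, zPerm]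
    rw [e, hc, prt_alpha]

/-- The function induced on pairs. -/
def pairFun (c : C0 n r) (p : Fin n × Bool) : Fin n × Bool :=
  prt (fst c (p.1, p.2, false))

theorem pairFun_prt (c : C0 n r) (x : Pt n) : pairFun c (prt x) = prt (fst c x) :=
  prt_map c rfl

theorem pairFun_mul (a b : C0 n r) (p : Fin n × Bool) : pairFun (a * b) p = pairFun a (pairFun b p) := by
  show prt (fst a (fst b (p.1, p.2, false))) = pairFun a (prt (fst b (p.1, p.2, false)))
  rw [pairFun_prt]

/-- The induced permutation of the pairs. -/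
def pairHom (n r : ℕ) : C0 n r →* Perm (Fin n × Bool) :=
  MonoidHom.mk' (fun c =>
    { toFun := pairFun c
      invFun := pairFun c⁻¹
      left_inv := fun p => by rw [← pairFun_mul, inv_mul_cancel]; rfl
      right_inv := fun p => by rw [← pairFun_mul, mul_inv_cancel]; rfl })
    fun a b => Equiv.ext fun p => pairFun_mul a b p

theorem pairHom_prt (c : C0 n r) (x : Pt n) : pairHom n r c (prt x) = prt (fst c x) :=
  pairFun_prt c x

/-- Block-diagonal permutations. -/
def blk (n : ℕ) : (Fin n → DD) →* Perm (Pt n) where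
  toFun d := Equiv.prodCongrRight fun k => (d k : Perm Four)
  map_one' := Equiv.ext fun _ => rfl
  map_mul' _ _ := Equiv.ext fun _ => rfl

theorem blk_apply (d : Fin n → DD) (x : Pt n) : blk n d x = (x.1, (d x.1 : Perm Four) x.2) := rfl

theorem blk_injective : Function.Injective (blk n) := fun a b h => funext fun k => Subtype.ext
  (Equiv.ext fun p => congrArg Prod.snd (congrFun (congrArg DFunLike.coe h) (k, p)))

theorem blk_comm (d : Fin n → DD) : blk n d * alpha n = alpha n * blk n d := Equiv.ext fun x =>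
  Prod.ext rfl (congrFun (congrArg DFunLike.coe (mem_DSub.mp (d x.1).2)) x.2)

/-- The transposition of two fixed points. -/
def ftr (r : ℕ) : Perm (Fin (r + 2)) := swap 0 1

/-- A sign as a permutation of the fixed points. -/
def gF (r : ℕ) : ℤˣ →* Perm (Fin (r + 2)) where
  toFun u := if u = 1 then 1 else ftr r
  map_one' := if_pos rfl
  map_mul' a b := by
    rcases Int.units_eq_one_or a with rfl | rfl <;> rcases Int.units_eq_one_or b with rfl | rfl <;>
      simp [ftr]

theorem sign_gF (u : ℤˣ) : Perm.sign (gF r u) = u := by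
  rcases Int.units_eq_one_or u with rfl | rfl
  · simp [gF]
  · simp [gF, ftr, Fin.ext_iff]

/-- The power of the dihedral group in the group. -/
def phi0 (n r : ℕ) : (Fin n → DD) →* C0 n r where
  toFun d := ⟨(blk n d, gF r (Perm.sign (blk n d))), blk_comm d, (sign_gF _).symm⟩
  map_one' := Subtype.ext (Prod.ext (map_one _) (by simp))
  map_mul' a b := Subtype.ext (Prod.ext (map_mul _ _ _) (by simp))

theorem phi0_injective : Function.Injective (phi0 n r) := fun _ _ h =>
  blk_injective (congrArg (fun c : C0 n r => fst c) h)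

theorem exists_blk {c : C0 n r} (h : ∀ x, (fst c x).1 = x.1) :
    ∃ d, fst c = blk n d := by
  set a := fst c with ha
  have hinv : ∀ x, (a.symm x).1 = x.1 := fun x => by
    have := h (a.symm x)
    rw [Equiv.apply_symm_apply] at this
    exact this.symm
  let d : Fin n → DD := fun k => ⟨
    { toFun := fun p => (a (k, p)).2
      invFun := fun p => (a.symm (k, p)).2
      left_inv := fun p => by
        have e : ((k, (a (k, p)).2) : Pt n) = a (k, p) := Prod.ext (h (k, p)).symm rfl
        simp only [e, Equiv.symm_apply_apply]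
      right_inv := fun p => by
        have e : ((k, (a.symm (k, p)).2) : Pt n) = a.symm (k, p) := Prod.ext (hinv (k, p)).symm rfl
        simp only [e, Equiv.apply_symm_apply] }, mem_DSub.mpr (Equiv.ext fun p => by
      show (a (k, zPerm p)).2 = zPerm (a (k, p)).2
      have e := congrFun (congrArg DFunLike.coe c.2.1) (k, p)
      exact congrArg Prod.snd e)⟩
  exact ⟨d, Equiv.ext fun x => Prod.ext (h x) rfl⟩

theorem DD_transitive : ∀ p q : Four, ∃ d : DD, (d : Perm Four) p = q := by decide +kernel

/-- A permutation respecting the blocks. -/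
def Blocky (c : C0 n r) : Prop := ∀ x y : Pt n, x.1 = y.1 → (fst c x).1 = (fst c y).1

/-- The normaliser of the power of the dihedral group respects the blocks. -/
theorem blocky_of_normalizes {c : C0 n r} (h : ∀ d, ∃ d', c * phi0 n r d = phi0 n r d' * c) :
    Blocky c := by
  rintro ⟨k, p⟩ ⟨k', p'⟩ (rfl : k = k')
  obtain ⟨v, hv⟩ := DD_transitive p p'
  obtain ⟨d', hd'⟩ := h (Pi.mulSingle k v)
  have e := congrFun (congrArg DFunLike.coe (congrArg (fun u : C0 n r => fst u) hd')) (k, p)
  have e' : fst c (blk n (Pi.mulSingle k v) (k, p)) =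
      blk n d' (fst c (k, p)) := e
  rw [blk_apply, blk_apply, Pi.mulSingle_eq_same, hv] at e'
  rw [e']

theorem small_invol (hr : r ≤ 1) (b : Perm (Fin (r + 2))) (hb : b * b = 1) (hs : Perm.sign b = 1) :
    b = 1 := by
  interval_cases r <;> revert b <;> decide +kernel

theorem small_cube (hr : r ≤ 1) (b : Perm (Fin (r + 2))) (hs : Perm.sign b = 1) : b ^ 3 = 1 := by
  interval_cases r <;> revert b <;> decide +kernel

theorem small_conj (hr : r ≤ 1) (b : Perm (Fin (r + 2))) (hb : b * b = 1) (hs : Perm.sign b = -1) :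
    ∃ τ : Perm (Fin (r + 2)), Perm.sign τ = 1 ∧ τ * b * τ⁻¹ = ftr r := by
  interval_cases r <;> revert b <;> decide +kernel

theorem four_mul_lt {s : ℕ} (hs : 2 ≤ s) : 4 * s < 4 ^ s := by
  induction s, hs using Nat.le_induction with
  | base => norm_num
  | succ k hk ih => rw [pow_succ]; omega

section Bound

variable {V : Subgroup (C0 n r)} (hB : ∀ a ∈ V, Blocky a) (hsq : ∀ a ∈ V, a * a = 1)

include hB hsq

theorem elem_comm (a b : V) : a * b = b * a := by
  have hA : ∀ u : V, u⁻¹ = u := fun u => inv_eq_of_mul_eq_one_right (Subtype.ext (hsq u u.2))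
  rw [← hA (a * b), mul_inv_rev, hA a, hA b]

theorem apply_sq (a : V) (x : Pt n) : fst (a : C0 n r) (fst (a : C0 n r) x) = x :=
  congrFun (congrArg DFunLike.coe (congrArg (fun u : C0 n r => fst u) (hsq a a.2))) x

/-- The block map. -/
theorem exists_blockHom : ∃ ν : V →* Perm (Fin n),
    ∀ (a : V) (x : Pt n), (fst (a : C0 n r) x).1 = ν a x.1 := by
  let f : V → Fin n → Fin n := fun a k => (fst (a : C0 n r) (k, default)).1
  have hf : ∀ (a : V) (x : Pt n), (fst (a : C0 n r) x).1 = f a x.1 := fun a x =>
    hB a a.2 x (x.1, default) rfl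
  refine ⟨MonoidHom.mk' (fun a => ⟨f a, f a, fun k => ?_, fun k => ?_⟩) fun a b => Equiv.ext fun k => ?_, hf⟩
  · show f a (f a k) = k
    rw [← hf a (fst (a : C0 n r) (k, default)), apply_sq hB hsq]
  · show f a (f a k) = k
    rw [← hf a (fst (a : C0 n r) (k, default)), apply_sq hB hsq]
  · exact hf a (fst (b : C0 n r) (k, default))

/-- The pointwise stabiliser of a set of blocks. -/
def fixBlocks (U : Finset (Fin n)) : Subgroup V where
  carrier := {a | ∀ x : Pt n, x.1 ∈ U → fst (a : C0 n r) x = x}
  one_mem' := fun _ _ => rfl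
  mul_mem' := fun {a b} ha hb x hx => by
    show fst (a : C0 n r) (fst (b : C0 n r) x) = x
    rw [hb x hx, ha x hx]
  inv_mem' := fun {a} ha x hx => by
    rw [show a⁻¹ = a from inv_eq_of_mul_eq_one_right (Subtype.ext (hsq a a.2))]
    exact ha x hx

theorem bound_step (ν : V →* Perm (Fin n))
    (hν : ∀ (a : V) (x : Pt n), (fst (a : C0 n r) x).1 = ν a x.1) :
    ∀ U : Finset (Fin n), (∀ a, ∀ k ∈ U, ν a k ∈ U) →
      (fixBlocks hsq U).index ≤ 4 ^ U.card ∧
        ((fixBlocks hsq U).index = 4 ^ U.card → ∀ a, ∀ k ∈ U, ν a k = k) := by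
  classical
  haveI := Fintype.ofFinite V
  have hνν : ∀ a k, ν a (ν a k) = k := fun a k => by
    rw [← Perm.mul_apply, ← map_mul, show a * a = 1 from Subtype.ext (hsq a a.2), map_one,
      Perm.one_apply]
  intro U
  induction U using Finset.strongInduction with
  | H U ih =>
    intro hinv
    rcases U.eq_empty_or_nonempty with rfl | ⟨k, hk⟩
    · refine ⟨?_, fun _ a j hj => absurd hj (Finset.notMem_empty j)⟩
      rw [show fixBlocks hsq ∅ = ⊤ from top_le_iff.mp fun a _ x hx => absurd hx (Finset.notMem_empty _),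
        Subgroup.index_top, Finset.card_empty, pow_zero]
    set O : Finset (Fin n) := Finset.univ.image fun a : V => ν a k with hO
    have hkO : k ∈ O := Finset.mem_image.mpr ⟨1, Finset.mem_univ _, by rw [map_one, Perm.one_apply]⟩
    have hOU : O ⊆ U := fun j hj => by
      obtain ⟨a, -, rfl⟩ := Finset.mem_image.mp hj
      exact hinv a k hk
    have hO' : ∀ a, ∀ j ∈ O, ν a j ∈ O := fun a j hj => by
      obtain ⟨b, -, rfl⟩ := Finset.mem_image.mp hj
      exact Finset.mem_image.mpr ⟨a * b, Finset.mem_univ _, by rw [map_mul, Perm.mul_apply]⟩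
    have hss : U \ O ⊂ U := Finset.sdiff_ssubset hOU ⟨k, hkO⟩
    have hinv' : ∀ a, ∀ j ∈ U \ O, ν a j ∈ U \ O := fun a j hj => by
      obtain ⟨h1, h2⟩ := Finset.mem_sdiff.mp hj
      refine Finset.mem_sdiff.mpr ⟨hinv a j h1, fun h3 => h2 ?_⟩
      rw [← hνν a j]
      exact hO' a _ h3
    obtain ⟨ih1, ih2⟩ := ih _ hss hinv'
    -- the orbit of `k`
    letI : MulAction V (Fin n) := MulAction.compHom _ ν
    set St : Subgroup V := MulAction.stabilizer V k
    have hidx : St.index = O.card := by
      rw [MulAction.index_stabilizer, ← Set.ncard_coe_finset]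
      congr 1
      ext j
      simp only [hO, Finset.coe_image, Finset.coe_univ, Set.image_univ]
      rfl
    have hle : fixBlocks hsq {k} ≤ St := fun a ha => by
      show ν a k = k
      rw [← hν a (k, default), ha _ (Finset.mem_singleton_self k)]
    have hloc : ∀ a : St, ∀ p : Four, (fst ((a : V) : C0 n r) (k, p)).1 = k := fun a p => by
      rw [hν (a : V) (k, p)]
      exact a.2
    -- restriction to the block
    have hres : ∃ res : St →* DD, ∀ (a : St) (p : Four),
        fst ((a : V) : C0 n r) (k, p) = (k, (res a : Perm Four) p) := by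
      let g : St → Four → Four := fun a p => (fst ((a : V) : C0 n r) (k, p)).2
      have hg : ∀ (a : St) p, fst ((a : V) : C0 n r) (k, p) = (k, g a p) := fun a p =>
        Prod.ext (hloc a p) rfl
      have hgg : ∀ (a : St) p, g a (g a p) = p := fun a p => by
        have e := apply_sq hB hsq (a : V) (k, p)
        rw [hg, hg] at e
        exact (Prod.mk.injEq .. |>.mp e).2
      refine ⟨MonoidHom.mk' (fun a => ⟨⟨g a, g a, hgg a, hgg a⟩, mem_DSub.mpr (Equiv.ext fun p => ?_)⟩)
        fun a b => Subtype.ext (Equiv.ext fun p => ?_), fun a p => hg a p⟩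
      · show g a (zPerm p) = zPerm (g a p)
        have e := congrFun (congrArg DFunLike.coe ((a : V) : C0 n r).2.1) (k, p)
        exact congrArg Prod.snd e
      · show g (a * b) p = g a (g b p)
        show (fst ((a : V) : C0 n r) (fst ((b : V) : C0 n r) (k, p))).2 = _
        rw [hg b p]
    obtain ⟨res, hres⟩ := hres
    have hker : (fixBlocks hsq {k}).subgroupOf St = res.ker := by
      ext a
      constructor
      · intro ha
        refine Subtype.ext (Equiv.ext fun p => ?_)
        have e : fst ((a : V) : C0 n r) (k, p) = (k, p) := ha (k, p) (Finset.mem_singleton_self k)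
        rw [hres] at e
        exact (Prod.mk.injEq .. |>.mp e).2
      · rintro (ha : res a = 1) ⟨j, p⟩ hx
        obtain rfl := Finset.mem_singleton.mp hx
        show fst ((a : V) : C0 n r) (j, p) = (j, p)
        rw [hres a p, ha]
        rfl
    have hrel : (fixBlocks hsq {k}).relIndex St ≤ 4 := by
      rw [Subgroup.relIndex, hker, Subgroup.index_ker]
      refine card_le_four _ ?_
      rintro _ ⟨a, rfl⟩
      rw [← map_mul, show a * a = 1 from Subtype.ext (Subtype.ext (hsq _ (a : V).2)), map_one]
    have hsame : fixBlocks hsq {k} ≤ fixBlocks hsq O := fun b hb x hx => by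
      obtain ⟨a, -, hax⟩ := Finset.mem_image.mp hx
      set y := fst (a : C0 n r) x with hy
      have hy1 : y.1 = k := by rw [hy, hν a x, ← hax, hνν]
      have hxy : x = fst (a : C0 n r) y := (apply_sq hB hsq a x).symm
      rw [hxy]
      show ((b * a : V) : C0 n r).1.1 y = _
      rw [elem_comm hB hsq b a]
      show fst (a : C0 n r) (fst (b : C0 n r) y) = _
      rw [hb y (Finset.mem_singleton.mpr hy1)]
    have hI : (fixBlocks hsq U).index ≤ 4 * O.card * (fixBlocks hsq (U \ O)).index := by
      refine le_trans ?_ (Nat.mul_le_mul_right _ (le_trans (Subgroup.relIndex_mul_index hle).ge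
        (Nat.mul_le_mul hrel hidx.le)))
      refine le_trans (le_of_eq (congrArg Subgroup.index ?_)) Subgroup.index_inf_le
      refine le_antisymm (fun a ha => ⟨fun x hx => ha x (Finset.mem_singleton.mp hx ▸ hk),
        fun x hx => ha x (Finset.sdiff_subset hx)⟩) fun a ha x hx => ?_
      by_cases hxO : x.1 ∈ O
      · exact hsame ha.1 x hxO
      · exact ha.2 x (Finset.mem_sdiff.mpr ⟨hx, hxO⟩)
    have hcard : U.card = O.card + (U \ O).card := by
      rw [add_comm, Finset.card_sdiff_add_card_eq_card hOU]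
    have hs1 : 1 ≤ O.card := Finset.card_pos.mpr ⟨k, hkO⟩
    have hle4 : 4 * O.card ≤ 4 ^ O.card := by
      rcases Nat.lt_or_ge O.card 2 with h | h
      · rw [show O.card = 1 by omega]; norm_num
      · exact (four_mul_lt h).le
    rw [hcard, pow_add]
    refine ⟨hI.trans (Nat.mul_le_mul hle4 ih1), fun he => ?_⟩
    have hO1 : O.card = 1 := by
      by_contra h
      have h4 := four_mul_lt (s := O.card) (by omega)
      have hp : 0 < 4 ^ (U \ O).card := pow_pos (by norm_num) _
      have := (he ▸ hI).trans (Nat.mul_le_mul_left _ ih1)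
      exact absurd (Nat.le_of_mul_le_mul_right this hp) (not_le.mpr h4)
    have hI' : (fixBlocks hsq (U \ O)).index = 4 ^ (U \ O).card := by
      refine le_antisymm ih1 ?_
      have := he ▸ hI
      rw [hO1] at this
      norm_num at this
      omega
    intro a j hj
    by_cases hjO : j ∈ O
    · obtain ⟨l, hl⟩ := Finset.card_eq_one.mp hO1
      have h1 := hO' a j hjO
      rw [hl, Finset.mem_singleton] at hjO h1
      rw [h1, hjO]
    · exact ih2 hI' a j (Finset.mem_sdiff.mpr ⟨hj, hjO⟩)

/-- An elementary abelian subgroup of the largest order fixes every block. -/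
theorem fixes_blocks (hr : r ≤ 1) (hc : Nat.card V = 4 ^ n) :
    ∀ a ∈ V, ∀ x : Pt n, (fst a x).1 = x.1 := by
  obtain ⟨ν, hν⟩ := exists_blockHom hB hsq
  have hbot : fixBlocks hsq Finset.univ = ⊥ := by
    rw [Subgroup.eq_bot_iff_forall]
    intro a ha
    have h1 : fst (a : C0 n r) = 1 := Equiv.ext fun x => ha x (Finset.mem_univ _)
    have h2 : snd (a : C0 n r) = 1 := small_invol hr _
      (congrArg (fun u : C0 n r => snd u) (hsq a a.2)) (by rw [← (show Perm.sign (fst (a : C0 n r)) = Perm.sign (snd (a : C0 n r)) from (a : C0 n r).2.2), h1, map_one])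
    exact Subtype.ext (Subtype.ext (Prod.ext h1 h2))
  obtain ⟨-, h2⟩ := bound_step hB hsq ν hν Finset.univ fun _ _ _ => Finset.mem_univ _
  intro a ha x
  have := h2 (by rw [hbot, Subgroup.index_bot, hc, Finset.card_univ, Fintype.card_fin]) ⟨a, ha⟩ x.1
    (Finset.mem_univ _)
  rw [← hν ⟨a, ha⟩ x] at this
  exact this

end Bound

/-- An elementary abelian subgroup of the largest order, in a two-subgroup with the power. -/
theorem mem_range_of_elementary (hr : r ≤ 1) {V : Subgroup (C0 n r)} (hB : ∀ a ∈ V, Blocky a)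
    (hsq : ∀ a ∈ V, a * a = 1) (hc : Nat.card V = 4 ^ n) {Q : Subgroup (C0 n r)} (hQ : IsPGroup 2 Q)
    (hVQ : V ≤ Q) (hJQ : (phi0 n r).range ≤ Q) : V ≤ (phi0 n r).range := by
  intro a ha
  obtain ⟨d, hd⟩ := exists_blk (fixes_blocks hB hsq hr hc a ha)
  obtain ⟨k, hk⟩ := hQ ⟨a * (phi0 n r d)⁻¹, Q.mul_mem (hVQ ha) (Q.inv_mem (hJQ ⟨d, rfl⟩))⟩
  set u := a * (phi0 n r d)⁻¹ with hu
  have h1 : fst u = 1 := by
    show fst a * (blk n d)⁻¹ = 1
    rw [hd, mul_inv_cancel]
  have h2 : snd u = 1 := by
    have hk' : snd u ^ 2 ^ k = 1 :=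
      congrArg (fun v : Q => snd (v : C0 n r)) hk
    have h3 := small_cube hr _ (show Perm.sign (snd u) = 1 by rw [← (show Perm.sign (fst u) = Perm.sign (snd u) from u.2.2), h1, map_one])
    exact orderOf_eq_one_iff.mp (Nat.eq_one_of_dvd_coprimes
      (Nat.Coprime.pow_left k (by norm_num : Nat.Coprime 2 3)) (orderOf_dvd_of_pow_eq_one hk')
      (orderOf_dvd_of_pow_eq_one h3))
  refine ⟨d, ?_⟩
  have : u = 1 := Subtype.ext (Prod.ext h1 h2)
  rw [hu, mul_inv_eq_one] at this
  exact this.symm

/-- Permutations of the pairs lift. -/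
def liftPair (n r : ℕ) : Perm (Fin n × Bool) →* C0 n r where
  toFun σ := ⟨((Equiv.prodAssoc (Fin n) Bool Bool).permCongr (Equiv.prodCongrLeft fun _ => σ), 1), by
    refine ⟨Equiv.ext fun x => ?_, ?_⟩
    · obtain ⟨k, i, j⟩ := x
      rfl
    · rw [Perm.sign_permCongr, Perm.sign_prodCongrLeft, map_one, Fintype.prod_bool, ← pow_two,
        Int.units_sq]⟩
  map_one' := Subtype.ext (Prod.ext (Equiv.ext fun _ => rfl) rfl)
  map_mul' a b := Subtype.ext (Prod.ext (Equiv.ext fun _ => rfl) (one_mul 1).symm)

theorem pairHom_liftPair (σ : Perm (Fin n × Bool)) : pairHom n r (liftPair n r σ) = σ :=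
  Equiv.ext fun _ => rfl

/-- A permutation of the blocks, as one of the pairs. -/
def blockPerm (π : Perm (Fin n)) : Perm (Fin n × Bool) := Equiv.prodCongrLeft fun _ => π

theorem liftPair_conj (π : Perm (Fin n)) (d : Fin n → DD) :
    liftPair n r (blockPerm π) * phi0 n r d * (liftPair n r (blockPerm π))⁻¹ =
      phi0 n r (fun l => d (π.symm l)) := by
  rw [mul_inv_eq_iff_eq_mul]
  have e : ((Equiv.prodAssoc (Fin n) Bool Bool).permCongr
        (Equiv.prodCongrLeft fun _ => blockPerm π)) * blk n d =
      blk n (fun l => d (π.symm l)) * ((Equiv.prodAssoc (Fin n) Bool Bool).permCongr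
        (Equiv.prodCongrLeft fun _ => blockPerm π)) := Equiv.ext fun x => by
    obtain ⟨k, p⟩ := x
    show _ = (π k, (d (π.symm (π k)) : Perm Four) p)
    rw [Equiv.symm_apply_apply]
    rfl
  have es : Perm.sign (blk n (fun l => d (π.symm l))) = Perm.sign (blk n d) := by
    have := congrArg Perm.sign e
    rw [map_mul, map_mul, mul_comm] at this
    exact (mul_right_cancel this).symm
  refine Subtype.ext (Prod.ext e ?_)
  show 1 * gF r _ = gF r _ * 1
  rw [one_mul, mul_one, es]

/-- The pair permutation of a block element. -/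
def pd : DD →* Perm Bool where
  toFun d := if ((d : Perm Four) (false, false)).1 then swap false true else 1
  map_one' := rfl
  map_mul' := by decide +kernel

theorem pairHom_phi0 (d : Fin n → DD) :
    pairHom n r (phi0 n r d) = Equiv.prodCongrRight fun k => pd (d k) := by
  refine Equiv.ext fun ⟨k, i⟩ => Prod.ext rfl ?_
  show ((d k : Perm Four) (i, false)).1 = pd (d k) i
  have : ∀ (v : DD) (i : Bool), ((v : Perm Four) (i, false)).1 = pd v i := by decide +kernel
  exact this _ _

theorem support_blk_x (s : Finset (Fin n)) :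
    (pairHom n r (phi0 n r fun k => if k ∈ s then xd else 1)).support = s ×ˢ Finset.univ := by
  ext ⟨k, i⟩
  rw [pairHom_phi0, Perm.mem_support]
  by_cases hk : k ∈ s
  · simp only [Finset.mem_product, hk, Finset.mem_univ, and_self, iff_true]
    intro h
    have h2 : pd xd i = i := by
      have := congrArg Prod.snd h
      simpa [hk] using this
    clear h hk
    revert h2
    revert i
    decide +kernel
  · simp [hk]

theorem cycleType_invol {α : Type*} [Fintype α] [DecidableEq α] {σ : Perm α} (h : σ * σ = 1) :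
    ∃ m, σ.cycleType = Multiset.replicate m 2 ∧ σ.support.card = 2 * m := by
  have e : σ.cycleType = Multiset.replicate σ.cycleType.card 2 := by
    refine Multiset.eq_replicate_card.mpr fun k hk => ?_
    have h1 := Perm.two_le_of_mem_cycleType hk
    have h2 := (Perm.dvd_of_mem_cycleType hk).trans
      (orderOf_dvd_of_pow_eq_one (show σ ^ 2 = 1 by rw [pow_two, h]))
    exact le_antisymm (Nat.le_of_dvd (by norm_num) h2) h1
  refine ⟨_, e, ?_⟩
  rw [← Perm.sum_cycleType, congrArg Multiset.sum e, Multiset.sum_replicate, smul_eq_mul, mul_comm]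

/-- Every element of square one is conjugate into the power. -/
theorem conj_into_range (hr : r ≤ 1) {c : C0 n r} (hc : c * c = 1) :
    ∃ g : C0 n r, g * c * g⁻¹ ∈ (phi0 n r).range := by
  obtain ⟨m, hm, hm'⟩ := cycleType_invol (σ := pairHom n r c) (by rw [← map_mul, hc, map_one])
  have hmn : m ≤ n := by
    have := (pairHom n r c).support.card_le_univ
    rw [hm', Fintype.card_prod, Fintype.card_fin, Fintype.card_bool] at this
    omega
  obtain ⟨s, -, hs⟩ := Finset.exists_subset_card_eq (s := (Finset.univ : Finset (Fin n))) (n := m)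
    (by rwa [Finset.card_univ, Fintype.card_fin])
  set L := pairHom n r (phi0 n r fun k => if k ∈ s then xd else 1) with hL
  have hLL : L * L = 1 := by
    rw [hL, ← map_mul, ← map_mul, show ((fun k => if k ∈ s then xd else 1) *
      fun k => if k ∈ s then xd else 1 : Fin n → DD) = 1 from funext fun k => by
        by_cases h : k ∈ s
        · show (if k ∈ s then xd else 1) * (if k ∈ s then xd else 1) = 1
          rw [if_pos h]; exact kl_sq true _ (gen_mem_kl true)
        · simp [h], map_one, map_one]
  obtain ⟨m', hm1, hm2⟩ := cycleType_invol hLL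
  have hmm : m' = m := by
    rw [hL, support_blk_x, Finset.card_product, Finset.card_univ, Fintype.card_bool, hs] at hm2
    omega
  obtain ⟨τ, hτ⟩ := isConj_iff.mp
    (Perm.isConj_iff_cycleType_eq.mpr (hm.trans (hmm ▸ hm1.symm)) : IsConj (pairHom n r c) L)
  set c' := liftPair n r τ * c * (liftPair n r τ)⁻¹ with hc'
  have hπ : pairHom n r c' = L := by
    rw [hc', map_mul, map_mul, map_inv, pairHom_liftPair, hτ]
  obtain ⟨d, hd⟩ := exists_blk (c := c') fun x => by
    have e := pairHom_prt c' x
    rw [hπ, hL, pairHom_phi0] at e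
    exact (congrArg Prod.fst e).symm
  have hb : snd c' * snd c' = 1 := congrArg (fun u : C0 n r => snd u)
    (show c' * c' = 1 by
      rw [hc', show liftPair n r τ * c * (liftPair n r τ)⁻¹ * (liftPair n r τ * c * (liftPair n r τ)⁻¹) =
        liftPair n r τ * (c * c) * (liftPair n r τ)⁻¹ by group, hc, mul_one, mul_inv_cancel])
  have hsg : Perm.sign (fst c') = Perm.sign (snd c') := c'.2.2
  rw [hd] at hsg
  rcases Int.units_eq_one_or (Perm.sign (snd c')) with h | h
  · refine ⟨liftPair n r τ, d, Subtype.ext (Prod.ext hd.symm ?_)⟩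
    show gF r (Perm.sign (blk n d)) = snd c'
    rw [hsg, h, map_one, small_invol hr _ hb h]
  · obtain ⟨w, hw1, hw2⟩ := small_conj hr _ hb h
    let v : C0 n r := ⟨(1, w), by simp, by simp [hw1]⟩
    refine ⟨v * liftPair n r τ, d, ?_⟩
    rw [show v * liftPair n r τ * c * (v * liftPair n r τ)⁻¹ = v * c' * v⁻¹ by rw [hc']; group]
    refine Subtype.ext (Prod.ext ?_ ?_)
    · show blk n d = 1 * fst c' * 1⁻¹
      rw [hd]; simp
    · show gF r _ = w * snd c' * w⁻¹
      rw [hw2, hsg, h]; rfl

/-- The two sign characters. -/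
def chi (b : Bool) : C0 n r →* ℤˣ :=
  bif b then Perm.sign.comp (pairHom n r)
  else Perm.sign.comp ((MonoidHom.snd _ _).comp (C0 n r).subtype)

theorem chi_phi0 (b : Bool) (d : Fin n → DD) : chi b (phi0 n r d) =
    ∏ k, bif b then Perm.sign (pd (d k)) else Perm.sign (d k : Perm Four) := by
  cases b
  · show Perm.sign (gF r (Perm.sign (blk n d))) = ∏ k, Perm.sign (d k : Perm Four)
    rw [sign_gF]
    exact Perm.sign_prodCongrRight fun k => (d k : Perm Four)
  · show Perm.sign (pairHom n r (phi0 n r d)) = _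
    rw [pairHom_phi0, Perm.sign_prodCongrRight]
    rfl

theorem chi_single (b : Bool) (k : Fin n) : chi b (phi0 n r (Pi.mulSingle k (gen b))) = -1 := by
  rw [chi_phi0, Finset.prod_eq_single k (fun j _ hj => by
    rw [Pi.mulSingle_eq_of_ne hj]; cases b <;> simp) (fun h => absurd (Finset.mem_univ k) h),
    Pi.mulSingle_eq_same]
  cases b
  · exact sign_DD false
  · decide +kernel

end CfsgLib.AltInvClasses
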