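import Cfsg.Agent.Lib.AltInvClasses.Main
import Mathlib.GroupTheory.SpecificGroups.Alternating
import Mathlib.GroupTheory.Perm.Subgroup

/-!
# The centraliser of a long involution of an alternating group is the model
-/

set_option autoImplicit false
set_option synthInstance.maxSize 1000
set_option linter.unusedSectionVars false

namespace CfsgLib.AltInvClasses

open Equiv

variable {n r : ℕ}

theorem alpha_ne (x : Pt n) : alpha n x ≠ x := fun h => by
  have : ∀ p : Four, zPerm p ≠ p := by decide +kernel
  exact this x.2 (congrArg Prod.snd h)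

theorem alpha_sq : alpha n * alpha n = 1 := Equiv.ext fun x => Prod.ext rfl (by
  have : ∀ p : Four, zPerm (zPerm p) = p := by decide +kernel
  exact this x.2)

theorem isConj_of_invol {α : Type*} [Fintype α] [DecidableEq α] {p q : Perm α} (hp : p * p = 1)
    (hq : q * q = 1) (h : p.support.card = q.support.card) : IsConj p q := by
  obtain ⟨a, ha, ha'⟩ := cycleType_invol hp
  obtain ⟨b, hb, hb'⟩ := cycleType_invol hq
  rw [Perm.isConj_iff_cycleType_eq, ha, hb, show a = b by omega]

/-- The centraliser as the model. -/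
theorem nonempty_mulEquiv_centralizer {m : ℕ} (hm : m = 4 * n + (r + 2))
    (α : alternatingGroup (Fin m)) (hα : α * α = 1)
    (hs : (α : Perm (Fin m)).support.card = 4 * n) :
    Nonempty (C0 n r ≃* Subgroup.centralizer ({α} : Set (alternatingGroup (Fin m)))) := by
  classical
  obtain ⟨σ₀⟩ : Nonempty (Fin m ≃ Pt n ⊕ Fin (r + 2)) := ⟨Fintype.equivOfCardEq (by simp [hm]; omega)⟩
  set A : Perm (Pt n ⊕ Fin (r + 2)) := Perm.sumCongr (alpha n) 1 with hA
  set A' : Perm (Fin m) := σ₀.symm.permCongr A with hA'
  have hA2 : A' * A' = 1 := Equiv.ext fun x => by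
    rcases e : σ₀ x with u | u
    · simp [hA', hA, e]
      have := congrFun (congrArg DFunLike.coe (alpha_sq (n := n))) u
      rw [Perm.mul_apply, Perm.one_apply] at this
      rw [this, ← e, Equiv.symm_apply_apply]
    · simp [hA', hA, e]
      rw [← e, Equiv.symm_apply_apply]
  have hsupp : A'.support.card = 4 * n := by
    have : A'.support = (Finset.univ.map Function.Embedding.inl).map σ₀.symm.toEmbedding := by
      ext x
      rw [Perm.mem_support]
      constructor
      · intro h
        rcases e : σ₀ x with u | u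
        · simp only [Finset.mem_map, Finset.mem_univ, true_and]
          exact ⟨.inl u, ⟨u, rfl⟩, by rw [← e]; exact σ₀.symm_apply_apply x⟩
        · exfalso
          apply h
          simp [hA', hA, e]
          rw [← e, Equiv.symm_apply_apply]
      · intro h
        simp only [Finset.mem_map, Finset.mem_univ, true_and] at h
        obtain ⟨_, ⟨u, rfl⟩, rfl⟩ := h
        simp [hA', hA, alpha_ne u]
    rw [this, Finset.card_map, Finset.card_map, Finset.card_univ]
    simp
    omega
  obtain ⟨τ, hτ⟩ := isConj_iff.mp (isConj_of_invol (show (α : Perm (Fin m)) * α = 1 from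
    congrArg Subtype.val hα) hA2 (hs.trans hsupp.symm))
  set σ : Fin m ≃ Pt n ⊕ Fin (r + 2) := τ.trans σ₀ with hσ
  have hσA : ∀ x, σ ((α : Perm (Fin m)) x) = A (σ x) := fun x => by
    have e := congrFun (congrArg DFunLike.coe hτ) (τ x)
    rw [Perm.mul_apply, Perm.mul_apply, Perm.inv_def, Equiv.symm_apply_apply] at e
    show σ₀ (τ _) = A (σ₀ (τ x))
    rw [e, hA', Equiv.permCongr_apply, Equiv.symm_symm, Equiv.apply_symm_apply]
  set f : C0 n r →* Perm (Fin m) := σ.symm.permCongrHom.toMonoidHom.comp
    ((Perm.sumCongrHom _ _).comp (C0 n r).subtype) with hf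
  have hfa : ∀ (c : C0 n r) x, σ (f c x) = Perm.sumCongr (fst c) (snd c) (σ x) := fun c x => by
    show σ (σ.symm (Perm.sumCongr (fst c) (snd c) (σ x))) = _
    rw [Equiv.apply_symm_apply]
  have hsgn : ∀ c : C0 n r, f c ∈ alternatingGroup (Fin m) := fun c => by
    rw [Perm.mem_alternatingGroup]
    show Perm.sign (σ.symm.permCongr (Perm.sumCongr (fst c) (snd c))) = 1
    rw [Perm.sign_permCongr, Perm.sign_sumCongr, c.2.2, Int.units_mul_self]
  have hcomm : ∀ c : C0 n r, (⟨f c, hsgn c⟩ : alternatingGroup (Fin m)) ∈ Subgroup.centralizer {α} := by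
    intro c
    rw [Subgroup.mem_centralizer_singleton_iff]
    refine Subtype.ext (Equiv.ext fun x => σ.injective ?_)
    show σ (f c ((α : Perm (Fin m)) x)) = σ ((α : Perm (Fin m)) (f c x))
    rw [hfa, hσA, hσA, hfa]
    rcases σ x with u | u
    · exact congrArg Sum.inl (congrFun (congrArg DFunLike.coe c.2.1) u)
    · rfl
  refine ⟨MulEquiv.ofBijective (MonoidHom.mk' (fun c => (⟨⟨f c, hsgn c⟩, hcomm c⟩ :
    Subgroup.centralizer ({α} : Set (alternatingGroup (Fin m))))) fun a b =>
      Subtype.ext (Subtype.ext (map_mul f a b))) ⟨fun a b h => ?_, fun u => ?_⟩⟩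
  · have h1 : f a = f b := congrArg (fun v : Subgroup.centralizer ({α} : Set (alternatingGroup (Fin m))) =>
      ((v : alternatingGroup (Fin m)) : Perm (Fin m))) h
    exact Subtype.ext (Perm.sumCongrHom_injective (σ.symm.permCongrHom.injective h1))
  · obtain ⟨⟨p, hp⟩, hu⟩ := u
    have hpα : ∀ x, p ((α : Perm (Fin m)) x) = (α : Perm (Fin m)) (p x) := fun x =>
      congrFun (congrArg DFunLike.coe (congrArg Subtype.val (Subgroup.mem_centralizer_singleton_iff.mp hu))) x
    set q : Perm (Pt n ⊕ Fin (r + 2)) := σ.permCongr p with hq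
    have hqA : ∀ y, q (A y) = A (q y) := fun y => by
      obtain ⟨x, rfl⟩ := σ.surjective y
      rw [← hσA, hq, Equiv.permCongr_apply, Equiv.permCongr_apply, Equiv.symm_apply_apply,
        Equiv.symm_apply_apply, hpα, hσA]
    have hmap : Set.MapsTo q (Set.range Sum.inl) (Set.range Sum.inl) := by
      rintro _ ⟨u, rfl⟩
      rcases e : q (Sum.inl u) with w | w
      · exact ⟨w, rfl⟩
      · exfalso
        have := hqA (Sum.inl u)
        rw [e] at this
        exact alpha_ne u (Sum.inl_injective (q.injective (this.trans e.symm)))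
    obtain ⟨⟨a, b⟩, hab⟩ := Perm.mem_sumCongrHom_range_of_perm_mapsTo_inl hmap
    have hab' : Perm.sumCongr a b = q := hab
    have hc : ((a, b) : Perm (Pt n) × Perm (Fin (r + 2))) ∈ C0 n r := by
      refine ⟨Equiv.ext fun u => Sum.inl_injective (β := Fin (r + 2)) ?_, ?_⟩
      · have := hqA (Sum.inl u)
        rw [← hab'] at this
        exact this
      · have h1 : Perm.sign q = 1 := by rw [hq, Perm.sign_permCongr]; exact hp
        rw [← hab', Perm.sign_sumCongr] at h1
        rwa [mul_eq_one_iff_eq_inv, Int.units_inv_eq_self] at h1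
    refine ⟨⟨_, hc⟩, Subtype.ext (Subtype.ext (Equiv.ext fun x => σ.injective ?_))⟩
    show σ (f ⟨_, hc⟩ x) = σ (p x)
    rw [hfa]
    show Perm.sumCongr a b (σ x) = _
    rw [hab', hq, Equiv.permCongr_apply, Equiv.symm_apply_apply]

/-- The central involution of the model. -/
theorem central_eq (hr : r ≤ 1) {c : C0 n r} (hc : c * c = 1) (h1 : c ≠ 1)
    (hz : ∀ u, u * c = c * u) : c = phi0 n r (zsum Finset.univ) := by
  obtain ⟨g, d, hd⟩ := conj_into_range hr hc
  rw [hz, mul_inv_cancel_right] at hd
  have hcomm : ∀ e, e * d = d * e := fun e => phi0_injective (r := r) (by rw [map_mul, map_mul, hd, hz])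
  have hC : ∀ l, IsC (d l) := fun l => by
    have : ∀ v : DD, (∀ a : DD, a * v = v * a) → IsC v := by decide +kernel
    refine this _ fun a => ?_
    have := congrFun (hcomm (Pi.mulSingle l a)) l
    simpa using this
  have hconst : ∀ l j, d l = d j := fun l j => by
    have e := liftPair_conj (r := r) (swap l j) d
    rw [hd, hz, mul_inv_cancel_right, ← hd] at e
    have := congrFun (phi0_injective (r := r) e) l
    rw [Equiv.symm_swap, swap_apply_left] at this
    exact this
  by_cases h : ∀ l, d l = zd
  · rw [← hd]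
    exact congrArg _ (funext fun l => by simp [zsum, h l])
  · push Not at h
    obtain ⟨l, hl⟩ := h
    refine absurd ?_ h1
    rw [← hd, show d = 1 from funext fun j => (hconst j l).trans (isC_cases _ (hC l) hl), map_one]

end CfsgLib.AltInvClasses
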